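import Mathlib

/-!
Odd order groups of automorphisms of an elementary abelian group of order `8` without fixed points.
-/

set_option autoImplicit false

namespace CfsgLib.InvolChar.EightCase

variable {E : Type*} [Group E] [Finite E]

theorem comm_of_sq (h2 : ∀ x : E, x * x = 1) (x y : E) : x * y = y * x := by
  have hi : ∀ z : E, z⁻¹ = z := fun z => inv_eq_of_mul_eq_one_right (h2 z)
  rw [← hi (x * y), mul_inv_rev, hi, hi]

theorem eq_one_of_fix_two (h2 : ∀ x : E, x * x = 1) (h8 : Nat.card E = 8) {α : MulAut E}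
    (hodd : Odd (orderOf α)) {t s : E} (ht : t ≠ 1) (hs : s ≠ 1) (hst : s ≠ t)
    (hαt : α t = t) (hαs : α s = s) : α = 1 := by
  classical
  let F : Subgroup E := MonoidHom.eqLocus α.toMonoidHom (MonoidHom.id E)
  have hF : ∀ z, z ∈ F ↔ α z = z := fun z => Iff.rfl
  have h4 : 4 ≤ Nat.card F := by
    have hsub : ({1, t, s, t * s} : Finset E) ⊆ Set.Finite.toFinset (Set.toFinite (F : Set E)) := by
      intro z hz
      simp only [Set.Finite.mem_toFinset, SetLike.mem_coe, hF]
      simp only [Finset.mem_insert, Finset.mem_singleton] at hz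
      rcases hz with rfl | rfl | rfl | rfl
      · exact map_one α
      · exact hαt
      · exact hαs
      · rw [map_mul, hαt, hαs]
    have hc : ({1, t, s, t * s} : Finset E).card = 4 := by
      have e1 : t * s ≠ 1 := fun e => hst (by
        rw [← inv_eq_of_mul_eq_one_right e, inv_eq_of_mul_eq_one_right (h2 t)])
      rw [Finset.card_insert_of_notMem, Finset.card_insert_of_notMem, Finset.card_insert_of_notMem,
        Finset.card_singleton]
      · simp only [Finset.mem_singleton]; exact fun e => ht (mul_eq_right.mp e.symm)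
      · simp only [Finset.mem_insert, Finset.mem_singleton, not_or]
        exact ⟨hst.symm, fun e => hs (mul_eq_left.mp e.symm)⟩
      · simp only [Finset.mem_insert, Finset.mem_singleton, not_or]
        exact ⟨ht.symm, hs.symm, e1.symm⟩
    have := Finset.card_le_card hsub
    rw [hc, ← Set.ncard_eq_toFinset_card _ (Set.toFinite _)] at this
    exact this
  have hd : Nat.card F ∣ 8 := h8 ▸ Subgroup.card_subgroup_dvd_card F
  have hsq : ∀ z, α (α z) = z := by
    intro z
    have hcases : Nat.card F = 4 ∨ Nat.card F = 8 := by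
      have := Nat.le_of_dvd (by norm_num) hd
      interval_cases hk : Nat.card F <;> omega
    rcases hcases with h | h
    · have hidx : F.index = 2 := by
        have := F.index_mul_card
        rw [h, h8] at this; omega
      by_cases hz : z ∈ F
      · rw [(hF z).mp hz, (hF z).mp hz]
      · have haz : α z ∉ F := fun h' => hz ((hF z).mpr (α.injective ((hF _).mp h')))
        have hw : z * α z ∈ F := by
          rw [Subgroup.mul_mem_iff_of_index_two hidx]
          exact iff_of_false hz haz
        rw [hF, map_mul, comm_of_sq h2 z (α z)] at hw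
        exact mul_left_cancel hw
    · have := Subgroup.eq_top_of_card_eq F (h.trans h8.symm)
      have hz : α z = z := (hF z).mp (this ▸ Subgroup.mem_top z)
      rw [hz, hz]
  have h2' : α ^ 2 = 1 := MulEquiv.ext fun z => by
    rw [sq, MulAut.mul_apply, hsq, MulAut.one_apply]
  rw [← orderOf_eq_one_iff]
  exact (Nat.coprime_two_right.mpr hodd).eq_one_of_dvd (orderOf_dvd_of_pow_eq_one h2')

variable (A : Subgroup (MulAut E))

theorem odd_ncard_orbit (hA : Odd (Nat.card A)) (x : E) :
    Odd (MulAction.orbit A x).ncard := by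
  rw [← MulAction.index_stabilizer]
  exact hA.of_dvd_nat (Subgroup.index_dvd_card _)

theorem orbit_subset (x : E) (hx : x ≠ 1) : MulAction.orbit A x ⊆ ({1}ᶜ : Set E) := by
  rintro _ ⟨⟨a, ha⟩, rfl⟩ h
  exact hx (a.injective (h.trans (map_one a).symm))

theorem transitive (h8 : Nat.card E = 8) (hA : Odd (Nat.card A))
    (hfix : ∀ x : E, x ≠ 1 → ∃ a ∈ A, a x ≠ x) {x : E} (hx : x ≠ 1) :
    MulAction.orbit A x = ({1}ᶜ : Set E) := by
  classical
  have h7 : ({1}ᶜ : Set E).ncard = 7 := by
    rw [Set.ncard_compl, Set.ncard_singleton, h8]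
  have hbig : ∀ y : E, y ≠ 1 → 3 ≤ (MulAction.orbit A y).ncard := by
    intro y hy
    have ho := odd_ncard_orbit A hA y
    have h1 : (MulAction.orbit A y).ncard ≠ 1 := by
      intro h1
      obtain ⟨a, ha, hay⟩ := hfix y hy
      obtain ⟨z, hz⟩ := Set.ncard_eq_one.mp h1
      have e1 : y ∈ MulAction.orbit A y := MulAction.mem_orbit_self y
      have e2 : a y ∈ MulAction.orbit A y := ⟨⟨a, ha⟩, rfl⟩
      rw [hz, Set.mem_singleton_iff] at e1 e2
      exact hay (e2.trans e1.symm)
    obtain ⟨k, hk⟩ := ho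
    omega
  by_contra hne
  obtain ⟨y, hy, hyx⟩ := Set.exists_of_ssubset ((orbit_subset A x hx).ssubset_of_ne hne)
  have hdis : Disjoint (MulAction.orbit A x) (MulAction.orbit A y) := by
    rw [Set.disjoint_left]
    intro z hz hz'
    exact hyx ((MulAction.orbit_eq_iff.mpr hz).symm ▸ (MulAction.orbit_eq_iff.mpr hz').symm ▸
      MulAction.mem_orbit_self y)
  have hsub : MulAction.orbit A x ∪ MulAction.orbit A y ⊆ ({1}ᶜ : Set E) :=
    Set.union_subset (orbit_subset A x hx) (orbit_subset A y hy)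
  have hu := Set.ncard_union_eq hdis (Set.toFinite _) (Set.toFinite _)
  have hne' : MulAction.orbit A x ∪ MulAction.orbit A y ≠ ({1}ᶜ : Set E) := by
    intro e
    rw [e, h7] at hu
    obtain ⟨k, hk⟩ := odd_ncard_orbit A hA x
    obtain ⟨l, hl⟩ := odd_ncard_orbit A hA y
    omega
  obtain ⟨z, hz, hzn⟩ := Set.exists_of_ssubset (hsub.ssubset_of_ne hne')
  have hd1 : Disjoint (MulAction.orbit A x ∪ MulAction.orbit A y) (MulAction.orbit A z) := by
    rw [Set.disjoint_left]
    intro w hw hw'
    refine hzn ?_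
    rcases hw with hw | hw
    · exact Or.inl ((MulAction.orbit_eq_iff.mpr hw).symm ▸ (MulAction.orbit_eq_iff.mpr hw').symm ▸
        MulAction.mem_orbit_self z)
    · exact Or.inr ((MulAction.orbit_eq_iff.mpr hw).symm ▸ (MulAction.orbit_eq_iff.mpr hw').symm ▸
        MulAction.mem_orbit_self z)
  have hu2 := Set.ncard_union_eq hd1 (Set.toFinite _) (Set.toFinite _)
  have hle := Set.ncard_le_ncard (Set.union_subset hsub (orbit_subset A z hz)) (Set.toFinite _)
  rw [h7, hu2, hu] at hle
  have := hbig x hx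
  have := hbig y hy
  have := hbig z hz
  omega

/-- Either the group has order `7`, or point stabilisers have order `3`, fixing one involution. -/
theorem seven_or_stab (h2 : ∀ x : E, x * x = 1) (h8 : Nat.card E = 8) (hA : Odd (Nat.card A))
    (hfix : ∀ x : E, x ≠ 1 → ∃ a ∈ A, a x ≠ x) {t : E} (ht : t ≠ 1) :
    Nat.card A = 7 ∨ ∃ σ ∈ A, σ t = t ∧ σ ^ 3 = 1 ∧ (∀ x, σ x = x → x = 1 ∨ x = t) ∧
      ∀ β ∈ A, β t = t → ∃ i : ℕ, β = σ ^ i := by
  classical
  set T := MulAction.stabilizer A t with hT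
  have hmemT : ∀ β : A, β ∈ T ↔ (β : MulAut E) t = t := fun β => Iff.rfl
  have hcard : Nat.card A = 7 * Nat.card T := by
    have e := T.index_mul_card
    rw [hT, MulAction.index_stabilizer, transitive A h8 hA hfix ht, Set.ncard_compl,
      Set.ncard_singleton, h8] at e
    rw [← e]
  have hToddN : Odd (Nat.card T) := hA.of_dvd_nat (Subgroup.card_subgroup_dvd_card T)
  have hoddel : ∀ a : A, Odd (orderOf (a : MulAut E)) := fun a => by
    rw [Subgroup.orderOf_coe]; exact hA.of_dvd_nat (orderOf_dvd_natCard a)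
  have hfree : ∀ s : E, s ≠ 1 → s ≠ t → (MulAction.orbit T s).ncard = Nat.card T := by
    intro s hs hst
    rw [← MulAction.index_stabilizer, (?_ : MulAction.stabilizer T s = ⊥), Subgroup.index_bot]
    refine (Subgroup.eq_bot_iff_forall _).mpr fun β hβ => ?_
    exact Subtype.ext (Subtype.ext (eq_one_of_fix_two h2 h8 (hoddel β.1) ht hs hst
      ((hmemT β.1).mp β.2) hβ))
  have horb : ∀ s : E, s ≠ 1 → s ≠ t → MulAction.orbit T s ⊆ (({1, t} : Set E))ᶜ := by
    rintro s hs hst _ ⟨⟨⟨a, ha⟩, haT⟩, rfl⟩ h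
    rcases h with h | h
    · exact hs (a.injective (h.trans (map_one a).symm))
    · exact hst (a.injective (h.trans ((hmemT ⟨a, ha⟩).mp haT).symm))
  have h6 : (({1, t} : Set E))ᶜ.ncard = 6 := by
    rw [Set.ncard_compl, Set.ncard_pair ht.symm, h8]
  obtain ⟨s, hs⟩ : ((({1, t} : Set E))ᶜ).Nonempty :=
    (Set.ncard_pos (Set.toFinite _)).mp (by rw [h6]; norm_num)
  simp only [Set.mem_compl_iff, Set.mem_insert_iff, Set.mem_singleton_iff, not_or] at hs
  have hle : Nat.card T ≤ 6 := by
    rw [← hfree s hs.1 hs.2, ← h6]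
    exact Set.ncard_le_ncard (horb s hs.1 hs.2) (Set.toFinite _)
  have hcases : Nat.card T = 1 ∨ Nat.card T = 3 := by
    obtain ⟨k, hk⟩ := hToddN
    rcases (show Nat.card T = 1 ∨ Nat.card T = 3 ∨ Nat.card T = 5 by omega) with h | h | h
    · exact Or.inl h
    · exact Or.inr h
    · exfalso
      have hne : MulAction.orbit T s ≠ (({1, t} : Set E))ᶜ := fun e => by
        have := hfree s hs.1 hs.2
        rw [e, h6, h] at this; omega
      obtain ⟨u, hu, hun⟩ := Set.exists_of_ssubset ((horb s hs.1 hs.2).ssubset_of_ne hne)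
      simp only [Set.mem_compl_iff, Set.mem_insert_iff, Set.mem_singleton_iff, not_or] at hu
      have hdis : Disjoint (MulAction.orbit T s) (MulAction.orbit T u) := by
        rw [Set.disjoint_left]
        intro z hz hz'
        exact hun ((MulAction.orbit_eq_iff.mpr hz).symm ▸ (MulAction.orbit_eq_iff.mpr hz').symm ▸
          MulAction.mem_orbit_self u)
      have := Set.ncard_le_ncard (Set.union_subset (horb s hs.1 hs.2) (horb u hu.1 hu.2))
        (Set.toFinite _)
      rw [Set.ncard_union_eq hdis (Set.toFinite _) (Set.toFinite _), hfree s hs.1 hs.2,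
        hfree u hu.1 hu.2, h6, h] at this
      omega
  rcases hcases with h | h
  · exact Or.inl (by rw [hcard, h])
  right
  have : Fact (Nat.Prime 3) := ⟨Nat.prime_three⟩
  obtain ⟨σ, hσ⟩ : ∃ σ : T, orderOf σ = 3 := exists_prime_orderOf_dvd_card' 3 (by rw [h])
  refine ⟨((σ : A) : MulAut E), σ.1.2, (hmemT σ.1).mp σ.2, ?_, ?_, ?_⟩
  · rw [← Subgroup.coe_pow, ← Subgroup.coe_pow, ← hσ, pow_orderOf_eq_one]
    rfl
  · intro x hx
    by_contra hne
    push Not at hne
    have : σ = 1 := Subtype.ext (Subtype.ext (eq_one_of_fix_two h2 h8 (hoddel σ.1) ht hne.1 hne.2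
      ((hmemT σ.1).mp σ.2) hx))
    rw [this, orderOf_one] at hσ
    norm_num at hσ
  · intro β hβ hβt
    have hz : Subgroup.zpowers σ = ⊤ := Subgroup.eq_top_of_card_eq _ (by
      rw [Nat.card_zpowers, hσ, h])
    have hm : (⟨⟨β, hβ⟩, (hmemT _).mpr hβt⟩ : T) ∈ Subgroup.zpowers σ := hz ▸ Subgroup.mem_top _
    obtain ⟨i, hi⟩ := mem_powers_iff_mem_zpowers.mpr hm
    exact ⟨i, by simpa using congrArg (fun z : T => ((z : A) : MulAut E)) hi.symm⟩

end CfsgLib.InvolChar.EightCase
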