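import Cfsg.Agent.Lib.InvolChar.EightCase.Quot
import Cfsg.Agent.Lib.InvolChar.Basic
import Cfsg.Agent.Lib.Char.Ito
import Cfsg.Agent.Lib.Blocks.SecondMain
import Cfsg.Agent.Lib.Invol.BlockConst

/-!
The principal `2`-block of a group `H` with `H/O(H)` of shape `2 × Alt(4)` consists of the
characters of `H/O(H)`; the projection of a class function onto it is the average over `O(H)`.
-/

set_option autoImplicit false

noncomputable section

namespace CfsgLib.InvolChar.EightCase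

open Cfsg CfsgLib.Char CfsgLib.Blocks CfsgLib.InvolChar
open scoped ComplexConjugate

variable {H : Type*} [Group H] [Fintype H] {M : Ideal AlgInt}

theorem mem_principalBlock_of_trivial (hM : IsPModular 2 M) (N : Subgroup H) [N.Normal]
    {S : Subgroup (H ⧸ N)} {τ r : H ⧸ N} (hQ : QHyp S τ r) (θ : IrrCharacter H)
    (hθ : ∀ n ∈ N, (θ : H → ℂ) n = (θ : H → ℂ) 1) : θ ∈ principalBlock M H := by
  have := hM.2.1
  have := Fintype.ofFinite (H ⧸ N)
  have := hQ.normal
  obtain ⟨ψ, hψ, he⟩ := CfsgLib.CharNormal.exists_irr_eq_comp_mk' N θ.2 hθ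
  obtain ⟨n, hn0, hn⟩ := exists_degree_pos hψ
  have hn3 : n ∣ 3 := hQ.index_eq ▸
    degree_dvd_index_abelian_normal S (fun a ha b hb => hQ.comm ha hb) hψ hn
  have hnodd : ¬ 2 ∣ n := fun h => absurd (h.trans hn3) (by norm_num)
  have hθ1 : (θ : H → ℂ) 1 = (n : ℂ) := by rw [← he]; simpa using hn
  show SameBlock M (fun _ : H => (1 : ℂ)) (θ : H → ℂ)
  intro x
  set m := (Subgroup.centralizer ({x} : Set H)).index with hm
  set a : AlgInt := (m : AlgInt) * ((n : AlgInt) - ⟨(θ : H → ℂ) x,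
    char_isIntegral (isCharacter_of_isIrr θ.2) x⟩) with ha
  refine ⟨a, (n : AlgInt), ?_, fun h => hnodd ((natCast_mem_iff hM n).mp h), ?_⟩
  · rcases Nat.even_or_odd m with hev | hodd
    · exact Ideal.mul_mem_right _ _ ((natCast_mem_iff hM m).mpr hev.two_dvd)
    · refine Ideal.mul_mem_left _ _ ?_
      have hxS : (x : H ⧸ N) ∈ S := by
        refine hQ.mem_of_odd_index (hodd.of_dvd_nat ?_)
        have h1 : (Subgroup.centralizer ({x} : Set H)).map (QuotientGroup.mk' N) ≤
            Subgroup.centralizer ({(x : H ⧸ N)} : Set (H ⧸ N)) := by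
          rintro _ ⟨c, hc, rfl⟩
          rw [SetLike.mem_coe, Subgroup.mem_centralizer_singleton_iff] at hc
          rw [Subgroup.mem_centralizer_singleton_iff, QuotientGroup.mk'_apply,
            ← QuotientGroup.mk_mul, hc, QuotientGroup.mk_mul]
        exact (Subgroup.index_dvd_of_le h1).trans
          (Subgroup.index_map_dvd _ (QuotientGroup.mk'_surjective N))
      obtain ⟨c, hc, hpar, -⟩ := exists_int_value ⟨ψ, hψ⟩ (hQ.invol _ hxS)
      have hd : deg (⟨ψ, hψ⟩ : IrrCharacter (H ⧸ N)) = n := by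
        have := deg_spec (⟨ψ, hψ⟩ : IrrCharacter (H ⧸ N))
        simp only [hn] at this
        exact_mod_cast this.symm
      rw [hd] at hpar
      have hxv : (θ : H → ℂ) x = (c : ℂ) := by rw [← he]; exact hc
      have e : ((n : AlgInt) - ⟨(θ : H → ℂ) x, char_isIntegral (isCharacter_of_isIrr θ.2) x⟩) =
          (((n : ℤ) - c : ℤ) : AlgInt) := by
        apply Subtype.ext
        simp [hxv]
      rw [e, intCast_mem_iff hM]
      exact hpar.two_dvd
  · have hn0' : (n : ℂ) ≠ 0 := by exact_mod_cast hn0.ne'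
    simp only [centralChar, ha, ← hm, hθ1]
    push_cast
    field_simp

theorem principalBlock_iff_trivial (hM : IsPModular 2 M) (N : Subgroup H) [N.Normal]
    (hN : ¬ 2 ∣ Nat.card N)
    {S : Subgroup (H ⧸ N)} {τ r : H ⧸ N} (hQ : QHyp S τ r) (θ : IrrCharacter H) :
    θ ∈ principalBlock M H ↔ ∀ n ∈ N, (θ : H → ℂ) n = (θ : H → ℂ) 1 := by
  classical
  have := hM.2.1
  have : Fact (Nat.Prime 2) := ⟨Nat.prime_two⟩
  refine ⟨fun h => ?_, mem_principalBlock_of_trivial hM N hQ θ⟩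
  exact trivialOn_of_sameBlock (χ := (irrOne : IrrCharacter H)) hM hN h (fun _ _ => rfl)

theorem blockCoeff_principal (hM : IsPModular 2 M) (N : Subgroup H) [N.Normal]
    (hN : ¬ 2 ∣ Nat.card N)
    {S : Subgroup (H ⧸ N)} {τ r : H ⧸ N} (hQ : QHyp S τ r) [DecidablePred (· ∈ N)] (x : H) :
    blockCoeff (principalBlock M H) x = if x ∈ N then (Nat.card N : ℂ)⁻¹ else 0 := by
  classical
  have := Fintype.ofFinite (H ⧸ N)
  have hset : principalBlock M H = {θ : IrrCharacter H | ∀ n ∈ N, (θ : H → ℂ) n = (θ : H → ℂ) 1} :=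
    Set.ext fun θ => principalBlock_iff_trivial hM N hN hQ θ
  have hsum : ∑ᶠ θ ∈ principalBlock M H, (θ : H → ℂ) 1 * conj ((θ : H → ℂ) x) =
      ∑ ψ : IrrCharacter (H ⧸ N), (ψ : H ⧸ N → ℂ) 1 * conj ((ψ : H ⧸ N → ℂ) (x : H ⧸ N)) := by
    rw [hset, finsum_mem_eq_toFinset_sum, ← finsum_eq_sum_of_fintype]
    rw [finsum_eq_sum_of_fintype]
    refine Finset.sum_bij' (fun θ hθ => (CfsgLib.CharNormal.inflEquiv N).symm
        ⟨θ, by simpa using hθ⟩) (fun ψ _ => (CfsgLib.CharNormal.inflEquiv N ψ).1)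
      (fun _ _ => Finset.mem_univ _)
      (fun ψ _ => by simpa using (CfsgLib.CharNormal.inflEquiv N ψ).2)
      (fun θ hθ => by simp) (fun ψ _ => by simp) (fun θ hθ => ?_)
    have e := Equiv.apply_symm_apply (CfsgLib.CharNormal.inflEquiv N)
      (⟨θ, by simpa using hθ⟩ : {χ : IrrCharacter H // ∀ n ∈ N, (χ : H → ℂ) n = (χ : H → ℂ) 1})
    rw [← CfsgLib.CharNormal.inflEquiv_apply N _ x, ← QuotientGroup.mk_one N,
      ← CfsgLib.CharNormal.inflEquiv_apply N _ 1, e]
  rw [blockCoeff, hsum]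
  have h := second_orthogonality (1 : H ⧸ N) (x : H ⧸ N)
  rw [h]
  have hiff : IsConj (1 : H ⧸ N) (x : H ⧸ N) ↔ x ∈ N := by
    rw [isConj_one_right, QuotientGroup.eq_one_iff]
  by_cases hx : x ∈ N
  · rw [if_pos (hiff.mpr hx), if_pos hx,
      show Subgroup.centralizer ({1} : Set (H ⧸ N)) = ⊤ from
        (Subgroup.centralizer_eq_top_iff_subset).mpr (by simp), Subgroup.card_top,
      Subgroup.card_eq_card_quotient_mul_card_subgroup N, Nat.cast_mul, mul_inv,
      mul_comm (Nat.card (H ⧸ N) : ℂ)⁻¹, mul_assoc,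
      inv_mul_cancel₀ (by exact_mod_cast (Nat.card_pos (α := H ⧸ N)).ne'), mul_one]
  · rw [if_neg (mt hiff.mp hx), if_neg hx, mul_zero]

theorem blockPart_principal (hM : IsPModular 2 M) (N : Subgroup H) [N.Normal] [Fintype N]
    (hN : ¬ 2 ∣ Nat.card N)
    {S : Subgroup (H ⧸ N)} {τ r : H ⧸ N} (hQ : QHyp S τ r) {f : H → ℂ}
    (hf : IsClassFunction H f) (y : H) :
    blockPart (principalBlock M H) f y = (Nat.card N : ℂ)⁻¹ * ∑ n : N, f ((n : H) * y) := by
  classical
  have := hM.2.1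
  have hb : IsPBlock M (principalBlock M H) := by rw [principalBlock_eq]; exact isPBlock_blockOf _
  rw [← sum_blockCoeff_mul hb hf y, Finset.mul_sum]
  simp only [blockCoeff_principal hM N hN hQ, ite_mul, zero_mul]
  rw [← Finset.sum_filter]
  refine Finset.sum_bij' (fun x hx => (⟨x, (Finset.mem_filter.mp hx).2⟩ : N)) (fun n _ => (n : H))
    (fun _ _ => Finset.mem_univ _) (fun n _ => by simp) (fun _ _ => rfl) (fun _ _ => rfl)
    (fun _ _ => rfl)

end CfsgLib.InvolChar.EightCase
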