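import Cfsg.Agent.Lib.InvolChar.EightCase.Local
import Cfsg.Agent.Lib.InvolChar.EightCase.OneBlock
import Cfsg.Agent.Lib.Char.Induced
import Cfsg.Agent.Lib.Char.Generalized
import Cfsg.Agent.Lib.Char.ClassAlgebra
import Cfsg.Prelude.Def_Local

/-!
The three generalised characters induced from the subgroup `O(C(t))⟨t, r⟩`.
-/

set_option autoImplicit false

noncomputable section

namespace CfsgLib.InvolChar.EightCase

open Cfsg CfsgLib.InvolChar.BSW CfsgLib.Char
open scoped ComplexConjugate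

/-- A primitive cube root of unity. -/
def om : ℂ := ⟨-1/2, Real.sqrt 3 / 2⟩

theorem om_sq : om ^ 2 = ⟨-1/2, -(Real.sqrt 3 / 2)⟩ := by
  have h := Real.mul_self_sqrt (show (0 : ℝ) ≤ 3 by norm_num)
  rw [sq]
  apply Complex.ext <;> simp [om] <;> nlinarith

theorem om_sum : om ^ 2 + om + 1 = 0 := by
  rw [om_sq]
  apply Complex.ext <;> simp [om]

theorem om_cube : om ^ 3 = 1 := by linear_combination (om - 1) * om_sum

theorem conj_om : conj om = om ^ 2 := by
  rw [om_sq]; exact Complex.ext (by simp [om]) (by simp [om])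

theorem om_pow_mod (n : ℕ) : om ^ n = om ^ (n % 3) := by
  conv_lhs => rw [← Nat.mod_add_div n 3, pow_add, pow_mul, om_cube, one_pow, mul_one]

theorem om_pair (n : ℕ) : om ^ n + om ^ (2 * n) = if 3 ∣ n then 2 else -1 := by
  rw [om_pow_mod n, om_pow_mod (2 * n)]
  rcases (show n % 3 = 0 ∨ n % 3 = 1 ∨ n % 3 = 2 by omega) with h | h | h
  · rw [h, show 2 * n % 3 = 0 by omega, if_pos (Nat.dvd_of_mod_eq_zero h)]; norm_num
  · rw [h, show 2 * n % 3 = 2 by omega, if_neg (by omega)]; linear_combination om_sum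
  · rw [h, show 2 * n % 3 = 1 by omega, if_neg (by omega)]; linear_combination om_sum

variable {G : Type*} [Group G] [Fintype G]

/-- `C(t)/O(C(t))`. -/
abbrev QQ (t : G) : Type _ := cen t ⧸ pPrimeCore 2 (cen t)

instance instCoreNormal (t : G) : (pPrimeCore 2 (cen t)).Normal :=
  Subgroup.sSup_normal _ fun _ hN => hN.1

/-- The projection. -/
abbrev prj (t : G) : cen t →* QQ t := QuotientGroup.mk' (pPrimeCore 2 (cen t))

variable (t : G) (τ r : QQ t)

/-- The inverse image of `⟨τ r⟩` in `G`. -/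
def RR : Subgroup G := ((Subgroup.zpowers (uu τ r)).comap (prj t)).map (cen t).subtype

theorem mem_RR {x : G} :
    x ∈ RR t τ r ↔ ∃ hx : x ∈ cen t, prj t ⟨x, hx⟩ ∈ Subgroup.zpowers (uu τ r) := by
  constructor
  · rintro ⟨y, hy, rfl⟩; exact ⟨y.2, hy⟩
  · rintro ⟨hx, h⟩; exact ⟨⟨x, hx⟩, h, rfl⟩

theorem RR_le : RR t τ r ≤ cen t := fun _ hx => ((mem_RR t τ r).mp hx).1

/-- The map to the cyclic group of order six. -/
def psi : RR t τ r →* Subgroup.zpowers (uu τ r) :=
  ((prj t).comp (Subgroup.inclusion (RR_le t τ r))).codRestrict _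
    fun x => ((mem_RR t τ r).mp x.2).2

theorem psi_coe (x : RR t τ r) :
    (psi t τ r x : QQ t) = prj t ⟨(x : G), RR_le t τ r x.2⟩ := rfl

/-- The character of the cyclic group sending the generator to `z`. -/
def lamHom (z : ℂˣ) (hz : orderOf z ∣ orderOf (⟨uu τ r, Subgroup.mem_zpowers _⟩ :
    Subgroup.zpowers (uu τ r))) : Subgroup.zpowers (uu τ r) →* ℂˣ :=
  monoidHomOfForallMemZpowers (g := ⟨uu τ r, Subgroup.mem_zpowers _⟩) (fun x => by
    obtain ⟨k, hk⟩ := Subgroup.mem_zpowers_iff.mp x.2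
    exact Subgroup.mem_zpowers_iff.mpr ⟨k, Subtype.ext (by simpa using hk)⟩) hz

theorem lamHom_pow (z : ℂˣ) (hz) (j : ℕ) {q : Subgroup.zpowers (uu τ r)}
    (hq : (q : QQ t) = uu τ r ^ j) : lamHom t τ r z hz q = z ^ j := by
  have e : q = (⟨uu τ r, Subgroup.mem_zpowers _⟩ : Subgroup.zpowers (uu τ r)) ^ j :=
    Subtype.ext (by simpa using hq)
  rw [e, map_pow, lamHom, monoidHomOfForallMemZpowers_apply_gen]

/-- `± om ^ a` as units. -/
def omU : ℂˣ := Units.mkOfMulEqOne om (om ^ 2) (by rw [← pow_succ']; exact om_cube)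

theorem omU_val : (omU : ℂ) = om := rfl

variable {t τ r} {S : Subgroup (QQ t)}

theorem hz_aux (hQ : QHyp S τ r) (a : ℕ) (z : ℂˣ) (hz : z = omU ^ a ∨ z = -omU ^ a) :
    orderOf z ∣ orderOf (⟨uu τ r, Subgroup.mem_zpowers _⟩ : Subgroup.zpowers (uu τ r)) := by
  rw [Subgroup.orderOf_mk, hQ.orderOf_uu]
  refine orderOf_dvd_of_pow_eq_one (Units.ext ?_)
  have h6 : (om ^ a) ^ 6 = 1 := by
    rw [← pow_mul, show a * 6 = 3 * (2 * a) by ring, pow_mul, om_cube, one_pow]
  rcases hz with rfl | rfl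
  · simpa [omU_val] using h6
  · rw [Units.val_pow_eq_pow_val, Units.val_neg, Units.val_pow_eq_pow_val, omU_val,
      Even.neg_pow (by decide), h6, Units.val_one]

/-- The function induced to `G`. -/
def Th (hQ : QHyp S τ r) (a : ℕ) : RR t τ r → ℂ :=
  fun x => ((lamHom t τ r (omU ^ a) (hz_aux hQ a _ (Or.inl rfl)) (psi t τ r x) : ℂˣ) : ℂ) -
    ((lamHom t τ r (-omU ^ a) (hz_aux hQ a _ (Or.inr rfl)) (psi t τ r x) : ℂˣ) : ℂ)

theorem Th_val (hQ : QHyp S τ r) (a j : ℕ) {x : RR t τ r}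
    (hx : (psi t τ r x : QQ t) = uu τ r ^ j) :
    Th hQ a x = om ^ (a * j) * (1 - (-1) ^ j) := by
  rw [Th, lamHom_pow t τ r _ _ j hx, lamHom_pow t τ r _ _ j hx]
  simp only [Units.val_pow_eq_pow_val, Units.val_neg, omU_val]
  rw [neg_pow (om ^ a), ← pow_mul]
  ring

theorem isGen_Th (hQ : QHyp S τ r) (a : ℕ) :
    IsGeneralizedCharacter (RR t τ r) (Th hQ a) :=
  isGen_sub
    (isGen_of_irr (isIrrCharacter_units_hom
      ((lamHom t τ r (omU ^ a) (hz_aux hQ a _ (Or.inl rfl))).comp (psi t τ r))))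
    (isGen_of_irr (isIrrCharacter_units_hom
      ((lamHom t τ r (-omU ^ a) (hz_aux hQ a _ (Or.inr rfl))).comp (psi t τ r))))

theorem Th_one (hQ : QHyp S τ r) (a : ℕ) : Th hQ a 1 = 0 := by
  rw [Th_val hQ a 0 (by simp)]
  simp

/-- The induced generalised character. -/
def AA (hQ : QHyp S τ r) (a : ℕ) : G → ℂ := indFun (RR t τ r) (Th hQ a)

theorem AA_one (hQ : QHyp S τ r) (a : ℕ) : AA hQ a 1 = 0 := by
  rw [AA, indFun_one, Th_one, mul_zero]

theorem isGen_AA (hQ : QHyp S τ r) (a : ℕ) : IsGeneralizedCharacter G (AA hQ a) :=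
  isGen_indFun _ (isGen_Th hQ a)

/-- A fixed preimage of `τ r`. -/
def uT (t : G) (τ r : QQ t) : cen t := (QuotientGroup.mk'_surjective _ (uu τ r)).choose

theorem prj_uT : prj t (uT t τ r) = uu τ r :=
  (QuotientGroup.mk'_surjective (pPrimeCore 2 (cen t)) (uu τ r)).choose_spec

theorem prj_uT_mul (j : ℕ) (k : pPrimeCore 2 (cen t)) :
    prj t (uT t τ r ^ j * k) = uu τ r ^ j := by
  rw [map_mul, map_pow, prj_uT]
  have h1 : prj t (k : cen t) = 1 := (QuotientGroup.eq_one_iff _).mpr k.2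
  rw [h1, mul_one]

/-- The element `ũ ^ j * k` of `RR`. -/
def rel (j : ℕ) (k : pPrimeCore 2 (cen t)) : RR t τ r :=
  ⟨((uT t τ r ^ j * k : cen t) : G), (mem_RR t τ r).mpr ⟨Subtype.prop _, by
    rw [Subtype.coe_eta, prj_uT_mul]; exact pow_mem (Subgroup.mem_zpowers _) j⟩⟩

theorem psi_rel (j : ℕ) (k : pPrimeCore 2 (cen t)) :
    (psi t τ r (rel j k) : QQ t) = uu τ r ^ j := by
  rw [psi_coe]
  exact prj_uT_mul j k

theorem rel_bijective (hQ : QHyp S τ r) :
    Function.Bijective (fun p : Fin 6 × pPrimeCore 2 (cen t) => (rel (p.1 : ℕ) p.2 : RR t τ r)) := by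
  constructor
  · rintro ⟨i, k⟩ ⟨j, l⟩ e
    have e1 := congrArg (fun x : RR t τ r => (psi t τ r x : QQ t)) e
    simp only [psi_rel] at e1
    have hij : i = j := by
      apply Fin.ext
      exact pow_injOn_Iio_orderOf (by rw [Set.mem_Iio, hQ.orderOf_uu]; exact i.2)
        (by rw [Set.mem_Iio, hQ.orderOf_uu]; exact j.2) e1
    subst hij
    have e2 : (uT t τ r ^ (i : ℕ) * k : cen t) = uT t τ r ^ (i : ℕ) * l :=
      Subtype.ext (congrArg (fun x : RR t τ r => (x : G)) e)
    rw [Prod.mk.injEq]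
    exact ⟨rfl, Subtype.ext (mul_left_cancel e2)⟩
  · intro x
    have hfin : IsOfFinOrder (uu τ r) := isOfFinOrder_iff_pow_eq_one.mpr ⟨6, by norm_num, hQ.uu_pow_six⟩
    obtain ⟨n, hn⟩ := (IsOfFinOrder.mem_powers_iff_mem_zpowers hfin).mpr (psi t τ r x).2
    have hn' : uu τ r ^ (n % 6) = prj t ⟨(x : G), RR_le t τ r x.2⟩ := by
      rw [← psi_coe, ← hn]
      show uu τ r ^ (n % 6) = uu τ r ^ n
      conv_rhs => rw [← Nat.mod_add_div n 6, pow_add, pow_mul, hQ.uu_pow_six, one_pow, mul_one]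
    have hk : (uT t τ r ^ (n % 6))⁻¹ * ⟨(x : G), RR_le t τ r x.2⟩ ∈ pPrimeCore 2 (cen t) := by
      rw [← QuotientGroup.eq_one_iff]
      show prj t _ = 1
      rw [map_mul, map_inv, map_pow, prj_uT, hn', inv_mul_cancel]
    refine ⟨(⟨n % 6, Nat.mod_lt _ (by norm_num)⟩, ⟨_, hk⟩), Subtype.ext ?_⟩
    show ((uT t τ r ^ (n % 6) * ((uT t τ r ^ (n % 6))⁻¹ * ⟨(x : G), RR_le t τ r x.2⟩) : cen t) : G) = x
    rw [mul_inv_cancel_left]

theorem sum_RR (hQ : QHyp S τ r) [Fintype (RR t τ r)] [Fintype (pPrimeCore 2 (cen t))]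
    (F : RR t τ r → ℂ) :
    ∑ x : RR t τ r, F x = ∑ j : Fin 6, ∑ k : pPrimeCore 2 (cen t), F (rel (j : ℕ) k) := by
  rw [← Fintype.sum_prod_type' (f := fun (j : Fin 6) k => F (rel (j : ℕ) k))]
  exact (Fintype.sum_equiv (Equiv.ofBijective _ (rel_bijective hQ)) _ _ fun p => rfl).symm

theorem card_RR (hQ : QHyp S τ r) :
    Nat.card (RR t τ r) = 6 * Nat.card (pPrimeCore 2 (cen t)) := by
  rw [← Nat.card_congr (Equiv.ofBijective _ (rel_bijective hQ)), Nat.card_prod, Nat.card_fin]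

theorem card_cen (hQ : QHyp S τ r) :
    Nat.card (cen t) = 24 * Nat.card (pPrimeCore 2 (cen t)) := by
  rw [Subgroup.card_eq_card_quotient_mul_card_subgroup (pPrimeCore 2 (cen t)), hQ.card_eq]

theorem odd_core : Odd (Nat.card (pPrimeCore 2 (cen t))) := by
  have : Fact (Nat.Prime 2) := ⟨Nat.prime_two⟩
  rw [Nat.odd_iff, ← Nat.two_dvd_ne_zero]
  exact CfsgLib.Cores.not_dvd_card_pPrimeCore 2

variable (ht : IsInv t) (hτ : τ = prj t (⟨t, mem_cen.mpr rfl⟩ : cen t))
include hτ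

/-- An element of `RR` over an odd power has a fixed odd power equal to `t`. -/
theorem pow_eq_t (hQ : QHyp S τ r) (ht : IsInv t) {x : RR t τ r} {j : ℕ} (hj : Odd j)
    (hx : (psi t τ r x : QQ t) = uu τ r ^ j) :
    (x : G) ^ (3 * Nat.card (pPrimeCore 2 (cen t))) = t := by
  set y : cen t := ⟨(x : G), RR_le t τ r x.2⟩ with hy
  set t' : cen t := ⟨t, mem_cen.mpr rfl⟩ with ht'
  have h3 : prj t (y ^ 3) = prj t t' := by
    rw [map_pow, ← hτ, ← psi_coe, hx, ← pow_mul, mul_comm, pow_mul, hQ.uu_pow_three, hQ.tau_pow,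
      if_neg (Nat.not_even_iff_odd.mpr hj)]
  set k : cen t := t'⁻¹ * y ^ 3 with hk
  have hkK : k ∈ pPrimeCore 2 (cen t) := by
    rw [← QuotientGroup.eq_one_iff]
    show prj t _ = 1
    rw [map_mul, map_inv, h3, inv_mul_cancel]
  have hcomm : Commute t' k := Subtype.ext (mem_cen.mp k.2).symm
  have hy3 : y ^ 3 = t' * k := (mul_inv_cancel_left _ _).symm
  obtain ⟨m, hm⟩ := odd_core (t := t)
  have hkn : k ^ Nat.card (pPrimeCore 2 (cen t)) = 1 :=
    congrArg Subtype.val (pow_card_eq_one' (x := (⟨k, hkK⟩ : pPrimeCore 2 (cen t))))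
  have : y ^ (3 * Nat.card (pPrimeCore 2 (cen t))) = t' := by
    rw [pow_mul, hy3, hcomm.mul_pow, hkn, mul_one, hm, pow_succ, pow_mul]
    have : t' ^ 2 = 1 := Subtype.ext (by rw [sq]; exact ht.2)
    rw [this, one_pow, one_mul]
  exact congrArg Subtype.val this

/-- The induced function at an element over an odd power. -/
theorem AA_res (hQ : QHyp S τ r) (ht : IsInv t) (a : ℕ) {x : RR t τ r} {j : ℕ} (hj : Odd j)
    (hx : (psi t τ r x : QQ t) = uu τ r ^ j) :
    AA hQ a (x : G) = if 3 ∣ j then 4 * Th hQ a x else Th hQ a x := by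
  classical
  let _ := Fintype.ofFinite (RR t τ r)
  have hterm : ∀ g : G, extendByZero (RR t τ r) (Th hQ a) (g⁻¹ * (x : G) * g) =
      if g ∈ cen t ∧ (3 ∣ j ∨ g ∈ RR t τ r) then Th hQ a x else 0 := by
    intro g
    by_cases hgC : g ∈ cen t
    · have hyC : g⁻¹ * (x : G) * g ∈ cen t :=
        (cen t).mul_mem ((cen t).mul_mem ((cen t).inv_mem hgC) (RR_le t τ r x.2)) hgC
      have hproj : prj t ⟨g⁻¹ * (x : G) * g, hyC⟩ =
          (prj t ⟨g, hgC⟩)⁻¹ * uu τ r ^ j * prj t ⟨g, hgC⟩ := by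
        rw [← hx, psi_coe, ← map_inv, ← map_mul, ← map_mul]
        exact congrArg _ (Subtype.ext rfl)
      by_cases hc : 3 ∣ j ∨ g ∈ RR t τ r
      · rw [if_pos ⟨hgC, hc⟩]
        have hfix : (prj t ⟨g, hgC⟩)⁻¹ * uu τ r ^ j * prj t ⟨g, hgC⟩ = uu τ r ^ j := by
          rcases hc with hd | hgR
          · obtain ⟨m, rfl⟩ := hd
            rw [pow_mul, hQ.uu_pow_three, mul_assoc,
              ← ((show Commute (prj t ⟨g, hgC⟩) τ from hQ.tau_central _).pow_right m).eq,
              inv_mul_cancel_left]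
          · obtain ⟨_, hg'⟩ := (mem_RR t τ r).mp hgR
            obtain ⟨i, hi⟩ := Subgroup.mem_zpowers_iff.mp hg'
            rw [← hi, mul_assoc, ← ((Commute.refl (uu τ r)).zpow_left i |>.pow_right j).eq,
              inv_mul_cancel_left]
        have hmem : g⁻¹ * (x : G) * g ∈ RR t τ r :=
          (mem_RR t τ r).mpr ⟨hyC, by rw [hproj, hfix]; exact pow_mem (Subgroup.mem_zpowers _) j⟩
        rw [extendByZero_of_mem _ hmem, Th_val hQ a j hx, Th_val hQ a j]
        rw [psi_coe]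
        exact hproj.trans hfix
      · rw [if_neg fun e => hc e.2]
        push Not at hc
        refine extendByZero_of_notMem _ fun hmem => hc.2 ?_
        obtain ⟨_, hm⟩ := (mem_RR t τ r).mp hmem
        rw [hproj] at hm
        exact (mem_RR t τ r).mpr ⟨hgC, hQ.conj_uu hc.1 hm⟩
    · rw [if_neg fun e => hgC e.1]
      by_cases hmem : g⁻¹ * (x : G) * g ∈ RR t τ r
      · rw [extendByZero_of_mem _ hmem]
        obtain ⟨⟨i, k⟩, hik⟩ := (rel_bijective hQ).surjective ⟨_, hmem⟩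
        have hpsi : (psi t τ r ⟨_, hmem⟩ : QQ t) = uu τ r ^ (i : ℕ) := by
          rw [← hik]; exact psi_rel _ _
        rw [Th_val hQ a _ hpsi]
        rcases Nat.even_or_odd (i : ℕ) with he | ho
        · rw [he.neg_one_pow, sub_self, mul_zero]
        · exfalso
          have h1 := pow_eq_t hτ hQ ht ho hpsi
          have h2 := pow_eq_t hτ hQ ht hj hx
          simp only at h1
          have h3 : (g⁻¹ * (x : G) * g) ^ (3 * Nat.card (pPrimeCore 2 (cen t))) =
              g⁻¹ * t * g := by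
            conv_rhs => rw [← h2]
            have := conj_pow (i := 3 * Nat.card (pPrimeCore 2 (cen t))) (a := g⁻¹) (b := (x : G))
            rwa [inv_inv] at this
          rw [h1] at h3
          refine hgC (mem_cen.mpr ?_)
          calc g * t = g * (g⁻¹ * t * g) := by rw [← h3]
            _ = t * g := by group
      · exact extendByZero_of_notMem _ hmem
  rw [AA, indFun_apply, Finset.sum_congr rfl fun g _ => hterm g, ← Finset.sum_filter,
    Finset.sum_const, nsmul_eq_mul]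
  have hk : (Nat.card (pPrimeCore 2 (cen t)) : ℂ) ≠ 0 := by exact_mod_cast Nat.card_pos.ne'
  by_cases hd : 3 ∣ j
  · rw [if_pos hd]
    have : (Finset.univ.filter fun g : G => g ∈ cen t ∧ (3 ∣ j ∨ g ∈ RR t τ r)).card =
        24 * Nat.card (pPrimeCore 2 (cen t)) := by
      rw [← card_cen hQ, ← Nat.card_eq_finsetCard]
      exact Nat.card_congr (Equiv.subtypeEquivRight fun g => by simp [hd])
    rw [this, card_RR hQ]
    push_cast
    field_simp
    ring
  · rw [if_neg hd]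
    have : (Finset.univ.filter fun g : G => g ∈ cen t ∧ (3 ∣ j ∨ g ∈ RR t τ r)).card =
        Nat.card (RR t τ r) := by
      rw [← Nat.card_eq_finsetCard]
      exact Nat.card_congr (Equiv.subtypeEquivRight fun g => by
        simpa [hd] using fun hg => RR_le t τ r hg)
    rw [this, ← mul_assoc, inv_mul_cancel₀ (card_subgroup_ne_zero _), one_mul]

/-- The inner products of the induced functions. -/
theorem inner_AA (hQ : QHyp S τ r) (ht : IsInv t) (a b : ℕ) :
    classInner (AA hQ a) (AA hQ b) = if 3 ∣ a + 2 * b then 4 else 2 := by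
  classical
  let _ := Fintype.ofFinite (RR t τ r)
  let _ := Fintype.ofFinite (pPrimeCore 2 (cen t))
  have hk : (Nat.card (pPrimeCore 2 (cen t)) : ℂ) ≠ 0 := by exact_mod_cast Nat.card_pos.ne'
  conv_lhs => rw [AA]
  rw [frobenius_reciprocity _ _ (isClassFunction_of_isGen (isGen_AA hQ b)), classInner_def,
    sum_RR hQ, card_RR hQ]
  have hterm : ∀ (j : Fin 6) (k : pPrimeCore 2 (cen t)),
      Th hQ a (rel (j : ℕ) k) * conj (AA hQ b ((rel (j : ℕ) k : RR t τ r) : G)) =
        if (j : ℕ) = 3 then 16 else if Odd (j : ℕ) then 4 * (om ^ ((a + 2 * b) * (j : ℕ))) else 0 := by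
    intro j k
    rw [Th_val hQ a _ (psi_rel _ k)]
    rcases Nat.even_or_odd (j : ℕ) with he | ho
    · rw [he.neg_one_pow, sub_self, mul_zero, zero_mul, if_neg (by rintro h; rw [h] at he; exact absurd he (by decide)),
        if_neg (Nat.not_odd_iff_even.mpr he)]
    · rw [AA_res hτ hQ ht b ho (psi_rel _ k), Th_val hQ b _ (psi_rel _ k), ho.neg_one_pow]
      have hd : 3 ∣ (j : ℕ) ↔ (j : ℕ) = 3 := by
        obtain ⟨m, hm⟩ := ho; have := j.2; omega
      have h2 : om ^ (a * (j : ℕ)) * (1 - -1) * conj (om ^ (b * (j : ℕ)) * (1 - -1)) =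
          4 * om ^ ((a + 2 * b) * (j : ℕ)) := by
        rw [map_mul, map_pow, conj_om, ← pow_mul, show (1 : ℂ) - -1 = 2 by norm_num, map_ofNat,
          add_mul, pow_add, mul_assoc 2 b]
        ring
      by_cases h3 : (j : ℕ) = 3
      · rw [if_pos (hd.mpr h3), if_pos h3, map_mul, map_ofNat, mul_left_comm, h2, h3,
          mul_comm (a + 2 * b), pow_mul, om_cube, one_pow]
        norm_num
      · rw [if_neg (mt hd.mp h3), if_neg h3, if_pos ho, h2]
  rw [Finset.sum_congr rfl fun j _ => Finset.sum_congr rfl fun k _ => hterm j k]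
  simp only [Finset.sum_const, Finset.card_univ, ← Nat.card_eq_fintype_card, nsmul_eq_mul]
  rw [Fin.sum_univ_six]
  simp only [Fin.val_zero, Fin.val_one, Fin.val_two, Fin.isValue]
  norm_num [show ((3 : Fin 6) : ℕ) = 3 from rfl, show ((4 : Fin 6) : ℕ) = 4 from rfl,
    show ((5 : Fin 6) : ℕ) = 5 from rfl, show ¬ Odd 0 by decide, show ¬ Odd 2 by decide,
    show ¬ Odd 4 by decide, show Odd 5 by decide, show Odd 1 by decide]
  have h5 : om ^ ((a + 2 * b) * 5) = om ^ (2 * (a + 2 * b)) := by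
    rw [om_pow_mod, om_pow_mod (2 * _)]; congr 1; omega
  have hp := om_pair (a + 2 * b)
  rw [h5]
  split_ifs with hd
  · rw [if_pos hd] at hp; field_simp; linear_combination 4 * hp
  · rw [if_neg hd] at hp; field_simp; linear_combination 4 * hp

/-- The inner product with the trivial character. -/
theorem inner_AA_one (hQ : QHyp S τ r) (a : ℕ) :
    classInner (AA hQ a) (fun _ => (1 : ℂ)) = if 3 ∣ a then 1 else 0 := by
  classical
  let _ := Fintype.ofFinite (RR t τ r)
  let _ := Fintype.ofFinite (pPrimeCore 2 (cen t))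
  have hk : (Nat.card (pPrimeCore 2 (cen t)) : ℂ) ≠ 0 := by exact_mod_cast Nat.card_pos.ne'
  rw [AA, frobenius_reciprocity _ _ (isClassFunction_const 1), classInner_one_right, sum_RR hQ,
    card_RR hQ]
  simp only [Th_val hQ a _ (psi_rel _ _)]
  simp only [Finset.sum_const, Finset.card_univ, ← Nat.card_eq_fintype_card, nsmul_eq_mul]
  rw [Fin.sum_univ_six]
  simp only [Fin.val_zero, Fin.val_one, Fin.val_two, Fin.isValue]
  norm_num [show ((3 : Fin 6) : ℕ) = 3 from rfl, show ((4 : Fin 6) : ℕ) = 4 from rfl,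
    show ((5 : Fin 6) : ℕ) = 5 from rfl]
  have h5 : om ^ (a * 5) = om ^ (2 * a) := by
    rw [om_pow_mod, om_pow_mod (2 * _)]; congr 1; omega
  have h3 : om ^ (a * 3) = 1 := by rw [mul_comm, pow_mul, om_cube, one_pow]
  have hp := om_pair a
  rw [h5, h3]
  split_ifs with hd
  · rw [if_pos hd] at hp; field_simp; linear_combination 2 * hp
  · rw [if_neg hd] at hp; field_simp; linear_combination 2 * hp

end CfsgLib.InvolChar.EightCase
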