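import Cfsg.Agent.Lib.InvolChar.EightCase.Chars
import Cfsg.Agent.Lib.InvolChar.Basic
import Cfsg.Agent.Lib.Blocks.ThirdMain
import Cfsg.Agent.Lib.Invol.BlockConst
import Cfsg.Agent.Lib.Blocks.GaloisInv

/-!
`C(t)/O(C(t)) ≅ 2 × Alt(4)` is impossible in a simple group with Sylow `2`-subgroups of order `8`.
-/

set_option autoImplicit false

noncomputable section

namespace CfsgLib.InvolChar.EightCase

open Cfsg CfsgLib.InvolChar.BSW CfsgLib.Char CfsgLib.Blocks CfsgLib.InvolChar
open scoped ComplexConjugate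

/-- The numerical inequality for one nontrivial character. -/
theorem term_bound (a b c t n : ℤ) (ha : |a| ≤ 1) (hb : |b| ≤ 1) (hc : |c| ≤ 1)
    (hsum : t = a + b + c) (hn : 0 < n) (hlt : t < n) (hlow : -n ≤ t) (hdvd : 8 ∣ n + 7 * t)
    (hnn : 0 ≤ n + 7 * t) :
    -50 * (2 * a - b - c) * t ^ 2 ≤
      n * (48 * a ^ 2 + 10 * (b ^ 2 + c ^ 2) + 20 * b * c - 43 * a * (b + c)) := by
  rw [abs_le] at ha hb hc
  obtain ⟨ha1, ha2⟩ := ha
  obtain ⟨hb1, hb2⟩ := hb
  obtain ⟨hc1, hc2⟩ := hc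
  subst hsum
  interval_cases a <;> interval_cases b <;> interval_cases c <;> norm_num at * <;> omega

variable {G : Type*} [Group G] [Fintype G] {t : G} {τ r : QQ t} {S : Subgroup (QQ t)}

/-- Characters outside the principal block vanish on average on the section of `t`. -/
theorem avg_eq_zero {M : Ideal AlgInt} (hM : IsPModular 2 M) (hQ : QHyp S τ r) (ht : IsInv t)
    {χ : IrrCharacter G} (hχ : χ ∉ principalBlock M G) [Fintype (pPrimeCore 2 (cen t))]
    {y : cen t} (hy : ¬ 2 ∣ orderOf y) :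
    ∑ k : pPrimeCore 2 (cen t), (χ : G → ℂ) (t * (((k : cen t) * y : cen t) : G)) = 0 := by
  classical
  have := hM.2.1
  have : Fact (Nat.Prime 2) := ⟨Nat.prime_two⟩
  let _ := Fintype.ofFinite (cen t)
  let _ : Fintype (Subgroup.centralizer ({t} : Set G)) := Fintype.ofFinite _
  have hx : ∃ k : ℕ, orderOf t = 2 ^ k := ⟨1, by rw [isInv_iff.mp ht, pow_one]⟩
  have hb : IsPBlock M (principalBlock M (cen t)) := by
    rw [principalBlock_eq]; exact isPBlock_blockOf _
  have hnot : ¬ IsInducedBlock M (cen t) (principalBlock M (cen t)) (blockOf M (χ : G → ℂ)) := by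
    intro hind
    have h3 := (third_main hM ⟨_, hind⟩).mpr rfl
    exact hχ (inducedBlock_unique _ h3 hind ▸ mem_blockOf_self χ)
  have h := second_main hM hx (mem_blockOf_self χ) (isPBlock_blockOf χ) hb hnot hy
  rw [blockPart_principal hM (pPrimeCore 2 (cen t)) (CfsgLib.Cores.not_dvd_card_pPrimeCore 2) hQ
    (isClassFunction_shift (x := t) (isClassFunction_of_isIrr χ.2)) y] at h
  exact (mul_eq_zero.mp h).resolve_left (inv_ne_zero (by exact_mod_cast Nat.card_pos.ne'))

/-- The multiplicities of the three induced characters. -/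
theorem multiplicities {M : Ideal AlgInt} (hM : IsPModular 2 M) (hQ : QHyp S τ r) (ht : IsInv t)
    (hτ : τ = prj t (⟨t, mem_cen.mpr rfl⟩ : cen t)) (χ : IrrCharacter G) :
    (∀ a, classInner (AA hQ a) (χ : G → ℂ) = 0) ∨
      classInner (AA hQ 0) (χ : G → ℂ) + classInner (AA hQ 1) (χ : G → ℂ) +
        classInner (AA hQ 2) (χ : G → ℂ) = conj ((χ : G → ℂ) t) := by
  classical
  have := hM.2.1
  have : Fact (Nat.Prime 2) := ⟨Nat.prime_two⟩
  let _ := Fintype.ofFinite (RR t τ r)
  let _ := Fintype.ofFinite (pPrimeCore 2 (cen t))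
  set t' : cen t := ⟨t, mem_cen.mpr rfl⟩ with ht'
  have hk : (Nat.card (pPrimeCore 2 (cen t)) : ℂ) ≠ 0 := by exact_mod_cast Nat.card_pos.ne'
  have hcl := isClassFunction_of_isIrr χ.2
  have hm : ∀ a, classInner (AA hQ a) (χ : G → ℂ) = (Nat.card (RR t τ r) : ℂ)⁻¹ *
      ∑ j : Fin 6, om ^ (a * (j : ℕ)) * (1 - (-1) ^ (j : ℕ)) *
        conj (∑ k : pPrimeCore 2 (cen t), (χ : G → ℂ) ((uT t τ r ^ (j : ℕ) * k : cen t) : G)) := by
    intro a
    rw [AA, frobenius_reciprocity _ _ hcl, classInner_def, sum_RR hQ]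
    congr 1
    refine Finset.sum_congr rfl fun j _ => ?_
    rw [map_sum, Finset.mul_sum]
    refine Finset.sum_congr rfl fun k _ => ?_
    rw [Th_val hQ a _ (psi_rel _ _)]
    rfl
  by_cases hχ : χ ∈ principalBlock M G
  · right
    rw [hm, hm, hm, ← mul_add, ← mul_add, ← Finset.sum_add_distrib, ← Finset.sum_add_distrib]
    -- only the coset of `t` survives
    have hconst : ∀ k : pPrimeCore 2 (cen t),
        (χ : G → ℂ) ((uT t τ r ^ 3 * k : cen t) : G) = (χ : G → ℂ) t := by
      intro k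
      have hmem : t'⁻¹ * (uT t τ r ^ 3 * k) ∈ pPrimeCore 2 (cen t) := by
        rw [← QuotientGroup.eq_one_iff]
        show prj t _ = 1
        rw [map_mul, map_inv, prj_uT_mul, hQ.uu_pow_three, ← hτ, inv_mul_cancel]
      have h := CfsgLib.Invol.principalBlock_const hM
        (u := t) ⟨1, by rw [isInv_iff.mp ht, pow_one]⟩ (centralizerPPrimeCore 2 t)
        (Subgroup.map_subtype_le _) ?_ ?_ hχ
        (v := ((t'⁻¹ * (uT t τ r ^ 3 * k) : cen t) : G)) (Subgroup.mem_map.mpr ⟨_, hmem, rfl⟩)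
      · rw [← h]
        congr 1
        simp [ht', ← mul_assoc]
      · intro c hc x hx
        obtain ⟨x', hx', rfl⟩ := Subgroup.mem_map.mp hx
        exact Subgroup.mem_map.mpr ⟨⟨c, hc⟩ * x' * ⟨c, hc⟩⁻¹,
          (instCoreNormal t).conj_mem _ hx' _, rfl⟩
      · rw [centralizerPPrimeCore, Subgroup.card_map_of_injective (Subgroup.subtype_injective _)]
        exact CfsgLib.Cores.not_dvd_card_pPrimeCore 2
    rw [Fin.sum_univ_six]
    simp only [Fin.val_zero, Fin.val_one, Fin.val_two, Fin.isValue,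
      show ((3 : Fin 6) : ℕ) = 3 from rfl, show ((4 : Fin 6) : ℕ) = 4 from rfl,
      show ((5 : Fin 6) : ℕ) = 5 from rfl]
    rw [Finset.sum_congr rfl fun k _ => hconst k, Finset.sum_const, Finset.card_univ,
      ← Nat.card_eq_fintype_card, card_RR hQ, nsmul_eq_mul, map_mul, map_natCast]
    have e1 : om ^ (1 * 3) = 1 := by rw [one_mul, om_cube]
    have e2 : om ^ (2 * 3) = 1 := by rw [mul_comm, pow_mul, om_cube, one_pow]
    have e3 : om ^ (1 * 5) = om ^ 2 := om_pow_mod 5
    have e4 : om ^ (2 * 5) = om := by rw [om_pow_mod]; exact pow_one om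
    rw [e1, e2, e3, e4]
    push_cast
    field_simp
    linear_combination (2 * conj (∑ k : pPrimeCore 2 (cen t),
      (χ : G → ℂ) ((uT t τ r ^ 1 * k : cen t) : G)) + 2 * conj (∑ k : pPrimeCore 2 (cen t),
      (χ : G → ℂ) ((uT t τ r ^ 5 * k : cen t) : G))) * om_sum
  · left
    intro a
    rw [hm]
    refine mul_eq_zero_of_right _ (Finset.sum_eq_zero fun j _ => ?_)
    rcases Nat.even_or_odd (j : ℕ) with he | ho
    · rw [he.neg_one_pow, sub_self, mul_zero, zero_mul]
    set y : cen t := t' * uT t τ r ^ (j : ℕ) with hy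
    have hyodd : ¬ 2 ∣ orderOf y := by
      have hy3 : y ^ 3 ∈ pPrimeCore 2 (cen t) := by
        rw [← QuotientGroup.eq_one_iff]
        show prj t _ = 1
        rw [map_pow, hy, map_mul, map_pow, prj_uT, ← hτ,
          (show Commute τ (uu τ r ^ (j : ℕ)) from (hQ.tau_central _).symm).mul_pow,
          ← pow_mul, mul_comm (j : ℕ), pow_mul, hQ.uu_pow_three, hQ.tau_pow, hQ.tau_pow,
          if_neg (by decide), if_neg (Nat.not_even_iff_odd.mpr ho)]
        exact hQ.invol τ hQ.tau_mem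
      have h1 : y ^ (3 * Nat.card (pPrimeCore 2 (cen t))) = 1 := by
        rw [pow_mul]
        exact congrArg Subtype.val (pow_card_eq_one' (x := (⟨y ^ 3, hy3⟩ : pPrimeCore 2 (cen t))))
      intro h2
      have h3 : 2 ∣ 3 * Nat.card (pPrimeCore 2 (cen t)) := h2.trans (orderOf_dvd_of_pow_eq_one h1)
      obtain ⟨m, hm⟩ := odd_core (t := t)
      omega
    have h := avg_eq_zero hM hQ ht hχ hyodd
    have e : ∑ k : pPrimeCore 2 (cen t), (χ : G → ℂ) ((uT t τ r ^ (j : ℕ) * k : cen t) : G) =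
        ∑ k : pPrimeCore 2 (cen t), (χ : G → ℂ) (t * (((k : cen t) * y : cen t) : G)) := by
      refine Finset.sum_congr rfl fun k _ => ?_
      have hc : t * ((k : cen t) : G) = ((k : cen t) : G) * t := (mem_cen.mp (k : cen t).2).symm
      rw [hy, Subgroup.coe_mul, Subgroup.coe_mul, Subgroup.coe_mul, ← mul_assoc, hc, ← mul_assoc,
        mul_assoc _ t t, ht.2, mul_one]
      exact char_mul_comm' (isCharacter_of_isIrr χ.2) _ _
    rw [e, h, map_zero, mul_zero]

/-- The weighted relation from counting pairs of involutions. -/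
theorem weighted (hQ : QHyp S τ r) (ht : IsInv t) (hτ : τ = prj t (⟨t, mem_cen.mpr rfl⟩ : cen t))
    (a b : ℕ) :
    ∑ χ : IrrCharacter G, classInner (AA hQ a) (χ : G → ℂ) *
        ((χ : G → ℂ) t * (χ : G → ℂ) t / (χ : G → ℂ) 1) =
      ∑ χ : IrrCharacter G, classInner (AA hQ b) (χ : G → ℂ) *
        ((χ : G → ℂ) t * (χ : G → ℂ) t / (χ : G → ℂ) 1) := by
  classical
  let _ := Fintype.ofFinite (RR t τ r)
  let _ := Fintype.ofFinite (pPrimeCore 2 (cen t))
  have htt : t⁻¹ = t := ht.inv_eq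
  have hreal : ∀ χ : IrrCharacter G, conj ((χ : G → ℂ) t * (χ : G → ℂ) t / (χ : G → ℂ) 1) =
      (χ : G → ℂ) t * (χ : G → ℂ) t / (χ : G → ℂ) 1 := fun χ => by
    rw [map_div₀, map_mul, char_conj_one (isCharacter_of_isIrr χ.2),
      ← char_inv (isCharacter_of_isIrr χ.2), htt]
  set c : ℂ := (Nat.card {x : G // IsConj t x} : ℂ) * (Nat.card {x : G // IsConj t x} : ℂ) /
    (Nat.card G : ℂ) with hc
  have hc0 : c ≠ 0 := by
    have : Nonempty {x : G // IsConj t x} := ⟨⟨t, IsConj.refl t⟩⟩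
    rw [hc]
    exact div_ne_zero (mul_ne_zero (by exact_mod_cast Nat.card_pos.ne') (by exact_mod_cast Nat.card_pos.ne'))
      (by exact_mod_cast Nat.card_pos.ne')
  set f : G → ℂ := fun g =>
    (Nat.card {p : G × G // IsConj t p.1 ∧ IsConj t p.2 ∧ p.1 * p.2 = g} : ℂ) with hf
  have hfe : f = ∑ χ : IrrCharacter G,
      (c * ((χ : G → ℂ) t * (χ : G → ℂ) t / (χ : G → ℂ) 1)) • (χ : G → ℂ) := by
    funext g
    have h := congrArg conj (card_classProduct_eq t t g)
    rw [map_natCast] at h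
    rw [hf]
    simp only
    rw [h, map_mul, map_div₀, map_mul, map_natCast, map_natCast, map_sum, Finset.sum_apply,
      Finset.mul_sum]
    refine Finset.sum_congr rfl fun χ _ => ?_
    rw [Pi.smul_apply, smul_eq_mul, show (χ : G → ℂ) t * (χ : G → ℂ) t * conj ((χ : G → ℂ) g) /
      (χ : G → ℂ) 1 = (χ : G → ℂ) t * (χ : G → ℂ) t / (χ : G → ℂ) 1 * conj ((χ : G → ℂ) g) by ring,
      map_mul, hreal, Complex.conj_conj, ← hc]
    ring
  have hcl : IsClassFunction G f := hfe ▸
    isClassFunction_sum _ fun χ _ => isClassFunction_smul (isClassFunction_of_isIrr χ.2) _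
  -- no product of two involutions over an element of order six
  have hzero : ∀ (j : ℕ) (k : pPrimeCore 2 (cen t)), Odd j → ¬ 3 ∣ j →
      f ((uT t τ r ^ j * k : cen t) : G) = 0 := by
    intro j k ho hd
    rw [hf]
    simp only [Nat.cast_eq_zero]
    have : IsEmpty {p : G × G // IsConj t p.1 ∧ IsConj t p.2 ∧
        p.1 * p.2 = ((uT t τ r ^ j * k : cen t) : G)} := by
      refine ⟨fun p => ?_⟩
      obtain ⟨⟨u, w⟩, hu, hw, huw⟩ := p
      simp only at hu hw huw
      have hI : ∀ {v : G}, IsConj t v → IsInv v := fun {v} hv => by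
        obtain ⟨g, rfl⟩ := isConj_iff.mp hv
        exact ht.conj g
      set x := ((uT t τ r ^ j * k : cen t) : G) with hx
      have hinv : u * x * u⁻¹ = x⁻¹ := by
        rw [← huw, mul_inv_rev, (hI hu).inv_eq, (hI hw).inv_eq, ← mul_assoc, (hI hu).2, one_mul]
      have hpow := pow_eq_t hτ hQ ht ho (x := rel j k) (psi_rel j k)
      have huC : u ∈ cen t := by
        rw [mem_cen]
        have h1 : (u * x * u⁻¹) ^ (3 * Nat.card (pPrimeCore 2 (cen t))) = t := by
          rw [hinv, inv_pow, show x ^ _ = t from hpow, htt]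
        rw [conj_pow, show x ^ _ = t from hpow] at h1
        exact mul_inv_eq_iff_eq_mul.mp h1
      refine hd (hQ.not_inverted (v := prj t ⟨u, huC⟩) ?_ ?_)
      · rw [← map_mul, show (⟨u, huC⟩ * ⟨u, huC⟩ : cen t) = 1 from Subtype.ext (hI hu).2, map_one]
      · rw [← prj_uT_mul (τ := τ) (r := r) j k, ← map_inv, ← map_mul, ← map_mul, ← map_inv]
        exact congrArg _ (Subtype.ext hinv)
    exact Nat.card_of_isEmpty
  have hinner : ∀ a, classInner (AA hQ a) f = (Nat.card (RR t τ r) : ℂ)⁻¹ *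
      (2 * ∑ k : pPrimeCore 2 (cen t), conj (f ((uT t τ r ^ 3 * k : cen t) : G))) := by
    intro a
    rw [AA, frobenius_reciprocity _ _ hcl, classInner_def, sum_RR hQ]
    congr 1
    rw [Finset.sum_eq_single (3 : Fin 6), Finset.mul_sum]
    · refine Finset.sum_congr rfl fun k _ => ?_
      rw [Th_val hQ a _ (psi_rel _ _), show ((3 : Fin 6) : ℕ) = 3 from rfl, mul_comm a, pow_mul,
        om_cube, one_pow]
      norm_num
      rfl
    · intro j _ hj
      refine Finset.sum_eq_zero fun k _ => ?_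
      rw [Th_val hQ a _ (psi_rel _ _)]
      rcases Nat.even_or_odd (j : ℕ) with he | ho
      · rw [he.neg_one_pow, sub_self, mul_zero, zero_mul]
      · have hd : ¬ 3 ∣ (j : ℕ) := by
          intro hd
          refine hj (Fin.ext ?_)
          show (j : ℕ) = 3
          obtain ⟨m, hm⟩ := ho; have := j.2; omega
        show _ * conj (f ((uT t τ r ^ (j : ℕ) * k : cen t) : G)) = 0
        rw [hzero _ k ho hd, map_zero, mul_zero]
    · simp
  have hexp : ∀ a, classInner (AA hQ a) f = c * ∑ χ : IrrCharacter G,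
      classInner (AA hQ a) (χ : G → ℂ) * ((χ : G → ℂ) t * (χ : G → ℂ) t / (χ : G → ℂ) 1) := by
    intro a
    rw [hfe, classInner_sum_right, Finset.mul_sum]
    refine Finset.sum_congr rfl fun χ _ => ?_
    rw [classInner_smul_right, map_mul, hreal, show conj c = c by simp [hc]]
    ring
  exact mul_left_cancel₀ hc0 ((hexp a).symm.trans ((hinner a).trans ((hinner b).symm.trans (hexp b))))

theorem no_local [IsSimpleGroup G] (S₀ : Sylow 2 G) (h : Local S₀ t) : False := by
  classical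
  have : Fact (Nat.Prime 2) := ⟨Nat.prime_two⟩
  obtain ⟨ht, htS, hS8, hsq, hconj, Sb, τ, r, hτ, hQ⟩ := h
  obtain ⟨M, hM⟩ := CfsgLib.Blocks.exists_isPModular Nat.prime_two
  choose m _hm1 hm hm2 using fun a => gen_decomp (isGen_AA hQ a)
  set T : IrrCharacter G → ℤ := fun χ => intVal χ ht.2 with hT
  have hTv : ∀ χ : IrrCharacter G, (χ : G → ℂ) t = (T χ : ℂ) := fun χ => intVal_spec χ ht.2
  -- inner products
  have hip : ∀ a b, ∑ χ : IrrCharacter G, m a χ * m b χ = if 3 ∣ a + 2 * b then 4 else 2 := by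
    intro a b
    have e := inner_AA hτ hQ ht a b
    rw [classInner_eq_sum (isClassFunction_of_isGen (isGen_AA hQ a))] at e
    simp only [hm, map_intCast] at e
    exact_mod_cast e
  have hone : ∀ a, m a irrOne = if 3 ∣ a then 1 else 0 := by
    intro a
    have e := (hm a irrOne).symm.trans (inner_AA_one hτ hQ a)
    exact_mod_cast e
  have hdeg : ∀ a, ∑ χ : IrrCharacter G, m a χ * (deg χ : ℤ) = 0 := by
    intro a
    have e := congrFun (_hm1 a) 1
    rw [AA_one, Finset.sum_apply] at e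
    simp only [Pi.smul_apply, smul_eq_mul, deg_spec] at e
    have e' : ((∑ χ : IrrCharacter G, m a χ * (deg χ : ℤ) : ℤ) : ℂ) = ((0 : ℤ) : ℂ) := by
      push_cast; exact e.symm
    exact_mod_cast e'
  have hrel : ∀ χ : IrrCharacter G, (∀ a, m a χ = 0) ∨ m 0 χ + m 1 χ + m 2 χ = T χ := by
    intro χ
    rcases multiplicities hM hQ ht hτ χ with h0 | h1
    · left; intro a; have := (hm a χ).symm.trans (h0 a); exact_mod_cast this
    · right
      rw [hm, hm, hm, hTv, map_intCast] at h1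
      exact_mod_cast h1
  -- degrees and values
  have hdvd : ∀ χ : IrrCharacter G, 0 ≤ (deg χ : ℤ) + 7 * T χ ∧ (8 : ℤ) ∣ (deg χ : ℤ) + 7 * T χ := by
    intro χ
    let _ := Fintype.ofFinite (S₀ : Subgroup G)
    obtain ⟨n, hn⟩ := classInner_char_nat (isCharacter_res (S₀ : Subgroup G) (isCharacter_of_isIrr χ.2))
      (isCharacter_one (G := (S₀ : Subgroup G)))
    have hval : ∀ x ∈ (Finset.univ : Finset (S₀ : Subgroup G)).erase 1,
        (χ : G → ℂ) (x : G) = (T χ : ℂ) := by
      intro x hx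
      have hx1 : (x : G) ≠ 1 := fun e => (Finset.mem_erase.mp hx).1 (Subtype.ext e)
      rw [← hTv]
      exact (isClassFunction_iff.mp (isClassFunction_of_isIrr χ.2) _ _
        (hconj _ ⟨hx1, hsq _ x.2⟩)).symm
    rw [classInner_one_right, hS8, ← Finset.add_sum_erase _ _ (Finset.mem_univ (1 : (S₀ : Subgroup G))),
      Finset.sum_congr rfl hval,
      Finset.sum_const, Finset.card_erase_of_mem (Finset.mem_univ _), Finset.card_univ,
      ← Nat.card_eq_fintype_card, hS8] at hn
    simp only [OneMemClass.coe_one, deg_spec, nsmul_eq_mul] at hn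
    have e : (deg χ : ℤ) + 7 * T χ = 8 * n := by
      have : ((deg χ : ℂ) + 7 * (T χ : ℂ)) = 8 * (n : ℂ) := by
        rw [← hn]; push_cast; norm_num; ring
      exact_mod_cast this
    exact ⟨by omega, ⟨n, e⟩⟩
  have hlt : ∀ χ : IrrCharacter G, χ ≠ irrOne → T χ < (deg χ : ℤ) ∧ -(deg χ : ℤ) ≤ T χ := by
    intro χ hχ
    have hab : |T χ| ≤ (deg χ : ℤ) := (exists_int_value χ ht.2).choose_spec.2.2
    rw [abs_le] at hab
    refine ⟨lt_of_le_of_ne hab.2 fun e => ?_, hab.1⟩
    have htk : t ∈ CfsgLib.CharNormal.charKer (isCharacter_of_isIrr χ.2) := by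
      rw [CfsgLib.CharNormal.mem_charKer, hTv, e, deg_spec]; norm_num
    have htop := ((CfsgLib.CharNormal.charKer_normal (isCharacter_of_isIrr χ.2)).eq_bot_or_eq_top).resolve_left
      fun hb => ht.1 (Subgroup.mem_bot.mp (hb ▸ htk))
    have h0 : classInner (χ : G → ℂ) (fun _ => (1 : ℂ)) = 0 :=
      classInner_irr_ne χ.2 isIrrCharacter_one fun e => hχ (Subtype.ext e)
    have hall : ∀ g ∈ (Finset.univ : Finset G), (χ : G → ℂ) g = (deg χ : ℂ) := fun g _ => by
      have hg : g ∈ CfsgLib.CharNormal.charKer (isCharacter_of_isIrr χ.2) := by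
        rw [htop]; exact Subgroup.mem_top g
      rw [CfsgLib.CharNormal.mem_charKer.mp hg, deg_spec]
    rw [classInner_one_right, Finset.sum_congr rfl hall, Finset.sum_const, nsmul_eq_mul, Finset.card_univ] at h0
    have hd := deg_pos χ
    simp [Fintype.card_ne_zero] at h0
    omega
  -- bounds on multiplicities
  have hsplit : ∀ F : IrrCharacter G → ℤ,
      ∑ χ : IrrCharacter G, F χ = F irrOne + ∑ χ ∈ Finset.univ.erase irrOne, F χ := fun F =>
    (Finset.add_sum_erase _ _ (Finset.mem_univ _)).symm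
  have hsq3 : ∀ a b, ∑ χ ∈ Finset.univ.erase irrOne, m a χ * m b χ =
      (if 3 ∣ a + 2 * b then 4 else 2) - (if 3 ∣ a then 1 else 0) * (if 3 ∣ b then 1 else 0) := by
    intro a b
    have := hip a b
    rw [hsplit, hone, hone] at this
    linarith
  have hbound : ∀ a, a < 3 → ∀ χ : IrrCharacter G, χ ≠ irrOne → |m a χ| ≤ 1 := by
    intro a ha χ hχ
    have hmem : χ ∈ Finset.univ.erase (irrOne : IrrCharacter G) :=
      Finset.mem_erase.mpr ⟨hχ, Finset.mem_univ _⟩
    have hnn : ∀ ξ ∈ Finset.univ.erase (irrOne : IrrCharacter G), 0 ≤ m a ξ * m a ξ :=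
      fun ξ _ => mul_self_nonneg _
    have hle := Finset.single_le_sum hnn hmem
    have h4 : m a χ * m a χ ≤ 4 := by
      rw [hsq3] at hle
      refine hle.trans ?_
      split_ifs <;> norm_num
    have hb2 : |m a χ| ≤ 2 := abs_le.mpr ⟨by nlinarith, by nlinarith⟩
    by_contra hgt
    have h2 : m a χ * m a χ = 4 := by
      have h2a : |m a χ| = 2 := le_antisymm hb2 (by omega)
      rw [← abs_mul_abs_self, h2a]
      norm_num
    -- then all other multiplicities vanish, contradicting degree zero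
    have ha0 : a ≠ 0 := by
      rintro rfl
      rw [hsq3, h2] at hle
      norm_num at hle
    have hsum4 : ∑ ξ ∈ Finset.univ.erase (irrOne : IrrCharacter G), m a ξ * m a ξ = 4 := by
      rw [hsq3]
      have h3a : ¬ 3 ∣ a := by omega
      have h3 : 3 ∣ a + 2 * a := ⟨a, by ring⟩
      simp [h3a, h3]
    rw [← Finset.add_sum_erase _ _ hmem, h2] at hsum4
    have hz : ∀ ξ : IrrCharacter G, ξ ≠ χ → m a ξ = 0 := by
      intro ξ hξ
      by_cases hξ1 : ξ = irrOne
      · rw [hξ1, hone, if_neg (by omega)]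
      · exact mul_self_eq_zero.mp ((Finset.sum_eq_zero_iff_of_nonneg
          (fun ζ hζ => hnn ζ (Finset.mem_of_mem_erase hζ))).mp (by linarith) ξ
          (Finset.mem_erase.mpr ⟨hξ, Finset.mem_erase.mpr ⟨hξ1, Finset.mem_univ _⟩⟩))
    have hd := hdeg a
    rw [Finset.sum_eq_single χ (fun ξ _ hξ => by rw [hz ξ hξ, zero_mul]) (by simp)] at hd
    rcases mul_eq_zero.mp hd with h0 | h0
    · rw [h0] at h2; norm_num at h2
    · have := deg_pos χ; omega
  -- the weighted relation, over the rationals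
  have hw : ∀ a b, ∑ χ : IrrCharacter G, (m a χ : ℚ) * ((T χ : ℚ) ^ 2 / (deg χ : ℚ)) =
      ∑ χ : IrrCharacter G, (m b χ : ℚ) * ((T χ : ℚ) ^ 2 / (deg χ : ℚ)) := by
    intro a b
    have e := weighted hQ ht hτ a b
    simp only [hm, hTv, deg_spec] at e
    apply Rat.cast_injective (α := ℂ)
    push_cast
    simp only [sq]
    exact e
  set W : IrrCharacter G → ℚ := fun χ =>
    -50 * (2 * (m 0 χ : ℚ) - m 1 χ - m 2 χ) * (T χ : ℚ) ^ 2 / (deg χ : ℚ) with hW
  set V : IrrCharacter G → ℤ := fun χ => 48 * (m 0 χ * m 0 χ) + 10 * (m 1 χ * m 1 χ + m 2 χ * m 2 χ) +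
    20 * (m 1 χ * m 2 χ) - 43 * (m 0 χ * m 1 χ + m 0 χ * m 2 χ) with hV
  have hWsum : ∑ χ : IrrCharacter G, W χ = 0 := by
    have e1 := hw 0 1
    have e2 := hw 0 2
    have : ∀ χ, W χ = -50 * (((m 0 χ : ℚ) * ((T χ : ℚ) ^ 2 / (deg χ : ℚ)) -
        (m 1 χ : ℚ) * ((T χ : ℚ) ^ 2 / (deg χ : ℚ))) + ((m 0 χ : ℚ) * ((T χ : ℚ) ^ 2 / (deg χ : ℚ)) -
        (m 2 χ : ℚ) * ((T χ : ℚ) ^ 2 / (deg χ : ℚ)))) := fun χ => by simp only [hW]; ring
    rw [Finset.sum_congr rfl fun χ _ => this χ, ← Finset.mul_sum, Finset.sum_add_distrib,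
      Finset.sum_sub_distrib, Finset.sum_sub_distrib, e1, ← e1, e2]
    ring
  have hW1 : W irrOne = -100 := by
    have hT1 : T irrOne = 1 := intVal_irrOne ht.2
    simp only [hW, hone, hT1, deg_irrOne]
    norm_num
  have hle : ∀ χ ∈ Finset.univ.erase (irrOne : IrrCharacter G), W χ ≤ (V χ : ℚ) := by
    intro χ hχ
    have hne := (Finset.mem_erase.mp hχ).1
    rcases hrel χ with h0 | h1
    · simp [hW, hV, h0]
    · have hb := term_bound (m 0 χ) (m 1 χ) (m 2 χ) (T χ) (deg χ) (hbound 0 (by norm_num) χ hne)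
        (hbound 1 (by norm_num) χ hne) (hbound 2 (by norm_num) χ hne) h1.symm
        (by exact_mod_cast deg_pos χ) (hlt χ hne).1 (hlt χ hne).2 (hdvd χ).2 (hdvd χ).1
      simp only [hW]
      rw [div_le_iff₀ (by exact_mod_cast deg_pos χ)]
      have hb' : ((-50 * (2 * m 0 χ - m 1 χ - m 2 χ) * T χ ^ 2 : ℤ) : ℚ) ≤
          (((deg χ : ℤ) * V χ : ℤ) : ℚ) := by
        exact_mod_cast hb.trans (le_of_eq (by simp only [hV]; ring))
      push_cast at hb'
      linarith
  have hVsum : ∑ χ ∈ Finset.univ.erase (irrOne : IrrCharacter G), V χ = 92 := by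
    simp only [hV, Finset.sum_sub_distrib, Finset.sum_add_distrib, ← Finset.mul_sum, hsq3]
    decide
  have h1 := Finset.add_sum_erase (Finset.univ : Finset (IrrCharacter G)) W
    (Finset.mem_univ (irrOne : IrrCharacter G))
  rw [hWsum, hW1] at h1
  have h2 := Finset.sum_le_sum hle
  have h3 : ((∑ χ ∈ Finset.univ.erase (irrOne : IrrCharacter G), V χ : ℤ) : ℚ) = 92 := by
    rw [hVsum]; norm_num
  push_cast at h3
  linarith

end CfsgLib.InvolChar.EightCase
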