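import Cfsg.Agent.Lib.InvolChar.EightCase.Quot
import Cfsg.Agent.Lib.InvolChar.EightCase.Aut
import Cfsg.Agent.Lib.InvolChar.BSW.Setup
import Cfsg.Agent.Lib.Solvable.Fitting
import Cfsg.Agent.Lib.Cores.Basic
import Cfsg.Prelude.Def_Solvable

/-!
A simple group with elementary abelian Sylow `2`-subgroups of order `8` and solvable involution
centralisers: either `|N(S)/C(S)| = 7`, or `C(t)/O(C(t))` has the shape `2 × Alt(4)`.
-/

set_option autoImplicit false

namespace CfsgLib.InvolChar.EightCase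

open Cfsg CfsgLib.InvolChar.BSW
open scoped commutatorElement

variable {G : Type*} [Group G] [Finite G]

/-- The data used by the character argument. -/
structure Local (S : Sylow 2 G) (t : G) : Prop where
  invol : IsInv t
  mem : t ∈ (S : Subgroup G)
  card : Nat.card (S : Subgroup G) = 8
  sq : ∀ x ∈ (S : Subgroup G), x * x = 1
  conj : ∀ u : G, IsInv u → IsConj t u
  shape : ∃ (Sb : Subgroup (cen t ⧸ pPrimeCore 2 (cen t))) (τ r : cen t ⧸ pPrimeCore 2 (cen t)),
    τ = QuotientGroup.mk (⟨t, mem_cen.mpr rfl⟩ : cen t) ∧ QHyp Sb τ r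

theorem odd_card_range (S : Sylow 2 G) (hc : IsMulCommutative (S : Subgroup G)) :
    Odd (Nat.card (S : Subgroup G).normalizerMonoidHom.range) ∧
      Nat.card (S : Subgroup G).normalizerMonoidHom.range =
        (Subgroup.centralizer ((S : Subgroup G) : Set G)).relIndex
          (Subgroup.normalizer ((S : Subgroup G) : Set G)) := by
  have e : Nat.card (S : Subgroup G).normalizerMonoidHom.range =
      (Subgroup.centralizer ((S : Subgroup G) : Set G)).relIndex
        (Subgroup.normalizer ((S : Subgroup G) : Set G)) := by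
    rw [← Subgroup.index_ker, Subgroup.normalizerMonoidHom_ker]
    rfl
  refine ⟨?_, e⟩
  rw [e, Nat.odd_iff, ← Nat.two_dvd_ne_zero]
  intro h2
  refine S.not_dvd_index (h2.trans (Dvd.dvd.trans
    (Subgroup.relIndex_dvd_of_le_left _ (Subgroup.le_centralizer (H := (S : Subgroup G)))) ?_))
  rw [← Subgroup.relIndex_mul_index (Subgroup.le_normalizer (H := (S : Subgroup G)))]
  exact dvd_mul_right _ _

theorem not_fixed [IsSimpleGroup G] (hG : ¬ IsMulCommutative G) (S : Sylow 2 G)
    [hc : IsMulCommutative (S : Subgroup G)] (h2 : ∀ x ∈ (S : Subgroup G), x * x = 1)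
    {x : G} (hx : x ∈ (S : Subgroup G))
    (hfix : ∀ n ∈ Subgroup.normalizer ((S : Subgroup G) : Set G), n * x * n⁻¹ = x) : x = 1 := by
  have hcom : commutator G = ⊤ :=
    (IsSimpleGroup.eq_bot_or_eq_top_of_normal (commutator G) inferInstance).resolve_left fun h =>
      hG (isMulCommutative_iff.mpr fun a b => by
        have hm : ⁅a, b⁆ ∈ commutator G :=
          Subgroup.commutator_mem_commutator (Subgroup.mem_top a) (Subgroup.mem_top b)
        rw [h, Subgroup.mem_bot, commutatorElement_eq_one_iff_mul_comm] at hm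
        exact hm)
  have hmul : x ^ (S : Subgroup G).index = x := by
    obtain ⟨k, hk⟩ := Nat.odd_iff.mpr (Nat.two_dvd_ne_zero.mp S.not_dvd_index)
    rw [hk, pow_succ, pow_mul, sq, h2 x hx, one_pow, one_mul]
  have key : ∀ (k : ℕ) (g₀ : G), g₀⁻¹ * x ^ k * g₀ ∈ (S : Subgroup G) → g₀⁻¹ * x ^ k * g₀ = x ^ k := by
    intro k g₀ hm
    obtain ⟨n, hn, e⟩ := S.conj_eq_normalizer_conj_of_mem (x ^ k) g₀
      ((S : Subgroup G).pow_mem hx k) hm
    rw [e]
    have h' := hfix n⁻¹ (inv_mem hn)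
    rw [inv_inv] at h'
    have hcm : Commute n⁻¹ x := by
      show n⁻¹ * x = x * n⁻¹
      calc n⁻¹ * x = n⁻¹ * x * n * n⁻¹ := by group
        _ = x * n⁻¹ := by rw [h']
    rw [(hcm.pow_right k).eq, inv_mul_cancel_right]
  open scoped IsMulCommutative in
  have h := MonoidHom.transfer_eq_pow (MonoidHom.id (S : Subgroup G)) x key
  open scoped IsMulCommutative in
  have h1 : MonoidHom.transfer (MonoidHom.id (S : Subgroup G)) x = 1 :=
    Abelianization.commutator_subset_ker (MonoidHom.transfer (MonoidHom.id (S : Subgroup G)))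
      (hcom ▸ Subgroup.mem_top x)
  rw [h1] at h
  have := congrArg Subtype.val h.symm
  simpa [hmul] using this

theorem normalizerMonoidHom_coe (H : Subgroup G) (n : Subgroup.normalizer (H : Set G)) (x : H) :
    ((H.normalizerMonoidHom n x : H) : G) = n * x * (n : G)⁻¹ := rfl

theorem local_or_seven [IsSimpleGroup G] (hG : ¬ IsMulCommutative G) (S : Sylow 2 G)
    (hS : IsElementaryAbelian 2 (S : Subgroup G)) (hS8 : Nat.card (S : Subgroup G) = 8)
    (hC : ∀ t : G, orderOf t = 2 → Group.IsSolvable (Subgroup.centralizer ({t} : Set G))) :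
    (Subgroup.centralizer ((S : Subgroup G) : Set G)).relIndex
        (Subgroup.normalizer ((S : Subgroup G) : Set G)) = 7 ∨ ∃ t, Local S t := by
  classical
  have : Fact (Nat.Prime 2) := ⟨Nat.prime_two⟩
  have hSc : IsMulCommutative (S : Subgroup G) := hS.1
  have h2 : ∀ x ∈ (S : Subgroup G), x * x = 1 := fun x hx => by rw [← sq]; exact hS.2 x hx
  have h2' : ∀ x : (S : Subgroup G), x * x = 1 := fun x => Subtype.ext (h2 x x.2)
  obtain ⟨hodd, hcard⟩ := odd_card_range S hSc
  set Φ := (S : Subgroup G).normalizerMonoidHom with hΦ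
  set A := Φ.range with hA
  have hfix : ∀ x : (S : Subgroup G), x ≠ 1 → ∃ a ∈ A, a x ≠ x := by
    intro x hx
    by_contra hne
    push Not at hne
    refine hx (Subtype.ext (not_fixed hG S h2 x.2 fun n hn => ?_))
    exact congrArg Subtype.val (hne (Φ ⟨n, hn⟩) ⟨_, rfl⟩)
  have : Nontrivial (S : Subgroup G) := by
    rw [← Finite.one_lt_card_iff_nontrivial, hS8]; norm_num
  obtain ⟨t0, ht0⟩ := exists_ne (1 : (S : Subgroup G))
  rcases seven_or_stab A h2' hS8 hodd hfix ht0 with h7 | ⟨σ, hσA, hσt, hσ3, hσfix, hσgen⟩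
  · exact Or.inl (hcard ▸ h7)
  right
  set t : G := (t0 : G) with ht
  have htinv : IsInv t := ⟨fun e => ht0 (Subtype.ext e), h2 t t0.2⟩
  have htS : t ∈ (S : Subgroup G) := t0.2
  refine ⟨t, htinv, htS, hS8, h2, ?_, ?_⟩
  · intro u hu
    have hp : IsPGroup 2 (Subgroup.zpowers u) :=
      IsPGroup.of_card (n := 1) (by rw [Nat.card_zpowers, isInv_iff.mp hu, pow_one])
    obtain ⟨P, hP⟩ := hp.exists_le_sylow
    obtain ⟨g, hg⟩ := MulAction.exists_smul_eq G P S
    have hgu : g * u * g⁻¹ ∈ (S : Subgroup G) := by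
      rw [← hg, Sylow.coe_subgroup_smul]
      exact ⟨u, hP (Subgroup.mem_zpowers u), rfl⟩
    have hne : (⟨g * u * g⁻¹, hgu⟩ : (S : Subgroup G)) ≠ 1 := fun e =>
      (hu.conj g).1 (congrArg Subtype.val e)
    have hmem : (⟨g * u * g⁻¹, hgu⟩ : (S : Subgroup G)) ∈ MulAction.orbit A t0 := by
      rw [transitive A hS8 hodd hfix ht0]; exact hne
    obtain ⟨⟨_, n, rfl⟩, hn⟩ := hmem
    have hn' : (n : G) * t * (n : G)⁻¹ = g * u * g⁻¹ := congrArg Subtype.val hn
    exact (isConj_iff.mpr ⟨(n : G), hn'⟩).trans (isConj_iff.mpr ⟨g⁻¹, by group⟩)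
  -- the shape of `C(t)/O(C(t))`
  have hsol : Group.IsSolvable (cen t) := hC t (isInv_iff.mp htinv)
  set K := pPrimeCore 2 (cen t) with hK
  have : K.Normal := Subgroup.sSup_normal _ fun N hN => hN.1
  set π := QuotientGroup.mk' K with hπ
  have hSle : (S : Subgroup G) ≤ cen t := fun x hx =>
    mem_cen.mpr (congrArg Subtype.val (comm_of_sq h2' ⟨x, hx⟩ t0))
  let ι : (S : Subgroup G) →* cen t ⧸ K := π.comp (Subgroup.inclusion hSle)
  have hι : ∀ x, ι x = π ⟨(x : G), hSle x.2⟩ := fun x => rfl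
  have hKodd : ¬ 2 ∣ Nat.card K := CfsgLib.Cores.not_dvd_card_pPrimeCore 2
  have hinj : Function.Injective ι := by
    refine (injective_iff_map_eq_one ι).mpr fun x hx => ?_
    rw [hι, hπ, QuotientGroup.mk'_apply, QuotientGroup.eq_one_iff] at hx
    have ho : orderOf (⟨(x : G), hSle x.2⟩ : cen t) ∣ 2 :=
      orderOf_dvd_of_pow_eq_one (Subtype.ext (by rw [sq]; exact h2 x x.2))
    have ho' : orderOf (⟨(x : G), hSle x.2⟩ : cen t) ∣ Nat.card K := Subgroup.orderOf_dvd_natCard K hx
    rcases (Nat.dvd_prime Nat.prime_two).mp ho with h | h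
    · have e := orderOf_eq_one_iff.mp h
      exact Subtype.ext (by simpa using congrArg Subtype.val e)
    · exact absurd (h ▸ ho') hKodd
  set Sb := ι.range with hSb
  have hSb8 : Nat.card Sb = 8 := by
    rw [hSb, ← Nat.card_congr (MonoidHom.ofInjective hinj).toEquiv]; exact hS8
  have hidx : ¬ 2 ∣ Sb.index := by
    have h1 : Sb = (S.subtype hSle : Subgroup (cen t)).map π := by
      rw [Sylow.coe_subtype]
      ext q
      constructor
      · rintro ⟨x, rfl⟩; exact ⟨⟨(x : G), hSle x.2⟩, x.2, rfl⟩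
      · rintro ⟨y, hy, rfl⟩; exact ⟨⟨(y : G), hy⟩, rfl⟩
    rw [h1]
    exact fun h => (S.subtype hSle).not_dvd_index
      (h.trans (Subgroup.index_map_dvd _ (QuotientGroup.mk'_surjective K)))
  have hSbp : IsPGroup 2 Sb := IsPGroup.of_card (n := 3) (by rw [hSb8]; norm_num)
  let P : Sylow 2 (cen t ⧸ K) := IsPGroup.toSylow hSbp hidx
  have hSbinv : ∀ q ∈ Sb, q * q = 1 := by
    rintro _ ⟨x, rfl⟩; rw [← map_mul, h2', map_one]
  have hO : pCore 2 (cen t ⧸ K) = Sb := by
    have hle : pCore 2 (cen t ⧸ K) ≤ Sb := CfsgLib.Cores.pCore_le_sylow P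
    have : Group.IsSolvable (cen t ⧸ K) :=
      Group.isSolvable_of_surjective (QuotientGroup.mk'_surjective K)
    refine le_antisymm hle (le_trans (fun q hq => ?_) (CfsgLib.Solvable.centralizer_pCore_le 2
      (CfsgLib.Cores.pPrimeCore_quotient_self 2)))
    refine Subgroup.mem_centralizer_iff.mpr fun y hy => ?_
    exact congrArg Subtype.val (comm_of_sq (E := Sb) (fun z => Subtype.ext (hSbinv z z.2))
      ⟨y, hle hy⟩ ⟨q, hq⟩)
  have hnormal : Sb.Normal := hO ▸ (Subgroup.sSup_normal _ fun N hN => hN.1 : (pCore 2 (cen t ⧸ K)).Normal)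
  have hcentr : Subgroup.centralizer (Sb : Set (cen t ⧸ K)) ≤ Sb := by
    have : Group.IsSolvable (cen t ⧸ K) :=
      Group.isSolvable_of_surjective (QuotientGroup.mk'_surjective K)
    have h := CfsgLib.Solvable.centralizer_pCore_le (G := cen t ⧸ K) 2
      (CfsgLib.Cores.pPrimeCore_quotient_self 2)
    rwa [hO] at h
  -- an element inducing `σ`
  obtain ⟨n, hn⟩ := hσA
  have hnC : (n : G) ∈ cen t := by
    have e : (n : G) * t * (n : G)⁻¹ = t := congrArg Subtype.val ((congrArg (· t0) hn).trans hσt)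
    exact mem_cen.mpr (mul_inv_eq_iff_eq_mul.mp e)
  set q₀ : cen t ⧸ K := π ⟨(n : G), hnC⟩ with hq₀
  have hact : ∀ (m : Subgroup.normalizer ((S : Subgroup G) : Set G)) (hm : (m : G) ∈ cen t)
      (x : (S : Subgroup G)), π ⟨(m : G), hm⟩ * ι x * (π ⟨(m : G), hm⟩)⁻¹ = ι (Φ m x) := by
    intro m hm x
    rw [hι, hι, ← map_inv, ← map_mul, ← map_mul]
    exact congrArg π (Subtype.ext rfl)
  have hq3 : q₀ ^ 3 ∈ Sb := by
    refine hcentr (Subgroup.mem_centralizer_iff.mpr ?_)
    rintro _ ⟨x, rfl⟩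
    have hm : ((n ^ 3 : Subgroup.normalizer ((S : Subgroup G) : Set G)) : G) ∈ cen t := by
      rw [Subgroup.coe_pow]; exact pow_mem hnC 3
    have h := hact (n ^ 3) hm x
    rw [map_pow, hn, hσ3, MulAut.one_apply] at h
    have e : π ⟨_, hm⟩ = q₀ ^ 3 := by
      rw [hq₀, ← map_pow]; exact congrArg π (Subtype.ext (Subgroup.coe_pow _ n 3))
    rw [e] at h
    conv_lhs => rw [← h]
    rw [inv_mul_cancel_right]
  set r := q₀ ^ 4 with hr
  have hr3 : r ^ 3 = 1 := by
    rw [hr, ← pow_mul, show 4 * 3 = 3 * 2 * 2 by norm_num, pow_mul, pow_mul, sq (q₀ ^ 3),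
      hSbinv _ hq3, one_pow]
  have hσ4 : σ ^ 4 = σ := by rw [pow_succ, hσ3, one_mul]
  have hr_act : ∀ x, r * ι x * r⁻¹ = ι (σ x) := by
    intro x
    have hm : ((n ^ 4 : Subgroup.normalizer ((S : Subgroup G) : Set G)) : G) ∈ cen t := by
      rw [Subgroup.coe_pow]; exact pow_mem hnC 4
    have h := hact (n ^ 4) hm x
    rw [map_pow, hn, hσ4] at h
    have e : π ⟨_, hm⟩ = r := by
      rw [hr, hq₀, ← map_pow]; exact congrArg π (Subtype.ext (Subgroup.coe_pow _ n 4))
    rwa [e] at h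
  refine ⟨Sb, ι t0, r, ?_, hSbinv, ⟨t0, rfl⟩, ?_, ?_, hr3, hnormal, ?_, hSb8, ?_⟩
  · rw [hι]; exact congrArg π (Subtype.ext rfl)
  · exact fun e => ht0 (hinj (e.trans (map_one ι).symm))
  · intro q
    induction q using QuotientGroup.induction_on with
    | H c =>
      rw [hι]
      show π c * π _ = π _ * π c
      rw [← map_mul, ← map_mul]
      exact congrArg π (Subtype.ext (mem_cen.mp c.2))
  · rintro _ ⟨x, rfl⟩ hc
    have e : ι (σ x) = ι x := by rw [← hr_act, hc, mul_inv_cancel_right]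
    rcases hσfix x (hinj e) with rfl | rfl
    · left; exact map_one ι
    · right; rfl
  · intro q
    -- Frattini argument
    set M := Sb.comap π with hM
    have hMn : M.Normal := hnormal.comap π
    have hSM : (S.subtype hSle : Subgroup (cen t)) ≤ M := by
      rw [Sylow.coe_subtype]
      intro y hy
      exact ⟨⟨(y : G), hy⟩, rfl⟩
    have htop := Sylow.normalizer_sup_eq_top' (S.subtype hSle) hSM
    obtain ⟨c, rfl⟩ := QuotientGroup.mk'_surjective K q
    have hcm : c ∈ Subgroup.normalizer ((S.subtype hSle : Subgroup (cen t)) : Set (cen t)) ⊔ M :=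
      htop ▸ Subgroup.mem_top c
    rw [← SetLike.mem_coe, Subgroup.mul_normal] at hcm
    obtain ⟨m, hm, y, hy, rfl⟩ := hcm
    have hmN : (m : G) ∈ Subgroup.normalizer ((S : Subgroup G) : Set G) := by
      rw [Subgroup.mem_normalizer_iff]
      intro x
      rw [SetLike.mem_coe, Sylow.coe_subtype, Subgroup.mem_normalizer_iff] at hm
      constructor
      · intro hx
        exact (hm ⟨x, hSle hx⟩).mp hx
      · intro hx
        have hxC : x ∈ cen t := by
          have := (cen t).mul_mem ((cen t).mul_mem ((cen t).inv_mem m.2) (hSle hx)) m.2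
          rwa [show (m : G)⁻¹ * ((m : G) * x * (m : G)⁻¹) * m = x by group] at this
        exact (hm ⟨x, hxC⟩).mpr hx
    have hmt : Φ ⟨m, hmN⟩ t0 = t0 := Subtype.ext (by
      rw [normalizerMonoidHom_coe]
      exact mul_inv_eq_iff_eq_mul.mpr (mem_cen.mp m.2))
    obtain ⟨i, hi⟩ := hσgen _ ⟨_, rfl⟩ hmt
    have hri : ∀ (i : ℕ) (x), r ^ i * ι x * (r ^ i)⁻¹ = ι ((σ ^ i) x) := by
      intro i
      induction i with
      | zero => intro x; simp
      | succ i ih =>
        intro x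
        rw [pow_succ' r, pow_succ' σ, MulAut.mul_apply, ← hr_act, ← ih]
        group
    have hd : π m * (r ^ i)⁻¹ ∈ Sb := by
      refine hcentr (Subgroup.mem_centralizer_iff.mpr ?_)
      rintro _ ⟨x, rfl⟩
      have h1 := hact ⟨m, hmN⟩ m.2 ((σ ^ i).symm x)
      rw [hi, MulEquiv.apply_symm_apply] at h1
      have h2 := hri i ((σ ^ i).symm x)
      rw [MulEquiv.apply_symm_apply] at h2
      have e : (⟨((⟨m, hmN⟩ : Subgroup.normalizer ((S : Subgroup G) : Set G)) : G), m.2⟩ : cen t) = m :=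
        rfl
      rw [e] at h1
      calc ι x * (π m * (r ^ i)⁻¹)
          = π m * ι ((σ ^ i).symm x) * (π m)⁻¹ * (π m * (r ^ i)⁻¹) := by rw [h1]
        _ = π m * (r ^ i)⁻¹ * (r ^ i * ι ((σ ^ i).symm x) * (r ^ i)⁻¹) := by group
        _ = π m * (r ^ i)⁻¹ * ι x := by rw [h2]
    refine ⟨π m * (r ^ i)⁻¹ * (r ^ i * π y * (r ^ i)⁻¹),
      Sb.mul_mem hd (hnormal.conj_mem _ hy _), i, ?_⟩
    show π (m * y) = _
    rw [map_mul]
    group

end CfsgLib.InvolChar.EightCase
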