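import Mathlib

/-!
Groups with the shape of `2 × Alt(4)`: an elementary abelian normal subgroup of order `8` extended
by an element of order `3` with exactly one fixed involution.
-/

set_option autoImplicit false

namespace CfsgLib.InvolChar.EightCase

variable {Q : Type*} [Group Q]

/-- `Q = S⟨r⟩` with `S` elementary abelian normal, `r ^ 3 = 1`, and `C_S(r) = ⟨τ⟩`. -/
structure QHyp (S : Subgroup Q) (τ r : Q) : Prop where
  invol : ∀ x ∈ S, x * x = 1
  tau_mem : τ ∈ S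
  tau_ne : τ ≠ 1
  tau_central : ∀ q : Q, q * τ = τ * q
  r_pow : r ^ 3 = 1
  normal : S.Normal
  fix : ∀ x ∈ S, r * x = x * r → x = 1 ∨ x = τ
  card : Nat.card S = 8
  decomp : ∀ q : Q, ∃ s ∈ S, ∃ i : ℕ, q = s * r ^ i

variable {S : Subgroup Q} {τ r : Q}

theorem QHyp.inv_eq (h : QHyp S τ r) {x : Q} (hx : x ∈ S) : x⁻¹ = x :=
  inv_eq_of_mul_eq_one_right (h.invol x hx)

theorem QHyp.comm (h : QHyp S τ r) {x y : Q} (hx : x ∈ S) (hy : y ∈ S) : x * y = y * x := by
  have := h.inv_eq (S.mul_mem hx hy)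
  rw [mul_inv_rev, h.inv_eq hx, h.inv_eq hy] at this
  exact this.symm

theorem QHyp.exists_outside (h : QHyp S τ r) : ∃ x ∈ S, x ≠ 1 ∧ x ≠ τ := by
  classical
  have : Finite S := Nat.finite_of_card_ne_zero (by rw [h.card]; norm_num)
  by_contra hne
  push Not at hne
  have hle : Nat.card S ≤ Nat.card (({1, τ} : Finset Q) : Set Q) :=
    Nat.card_mono (Finset.finite_toSet _) fun x hx => by
      simp only [Finset.coe_insert, Finset.coe_singleton, Set.mem_insert_iff, Set.mem_singleton_iff]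
      exact or_iff_not_imp_left.mpr (hne x hx)
  rw [h.card, Nat.card_coe_set_eq, Set.ncard_coe_finset] at hle
  exact absurd (hle.trans Finset.card_le_two) (by norm_num)

/-- Powers of `r` not divisible by `3` fix nothing new. -/
theorem QHyp.fix_pow (h : QHyp S τ r) {n : ℕ} (hn : ¬ 3 ∣ n) {x : Q} (hx : x ∈ S)
    (hc : r ^ n * x = x * r ^ n) : x = 1 ∨ x = τ := by
  refine h.fix x hx ?_
  obtain ⟨m, hm⟩ : ∃ m, (r ^ n) ^ m = r := by
    have e : ∀ k, r ^ k = r ^ (k % 3) := fun k => by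
      conv_lhs => rw [← Nat.mod_add_div k 3, pow_add, pow_mul, h.r_pow, one_pow, mul_one]
    refine ⟨n % 3, ?_⟩
    rw [← pow_mul, e, Nat.mul_mod, Nat.mod_mod]
    rcases (show n % 3 = 1 ∨ n % 3 = 2 by omega) with h' | h' <;> rw [h'] <;> norm_num
  have := (Commute.pow_left hc m).eq
  rwa [hm] at this

theorem QHyp.not_mem (h : QHyp S τ r) {n : ℕ} (hn : r ^ n ∈ S) : 3 ∣ n := by
  by_contra hd
  obtain ⟨x, hx, hx1, hxτ⟩ := h.exists_outside
  rcases h.fix_pow hd hx (h.comm hn hx) with h' | h'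
  · exact hx1 h'
  · exact hxτ h'

theorem QHyp.r_pow_of_dvd (h : QHyp S τ r) {n : ℕ} (hn : 3 ∣ n) : r ^ n = 1 := by
  obtain ⟨m, rfl⟩ := hn
  rw [pow_mul, h.r_pow, one_pow]

theorem QHyp.conj_mem (h : QHyp S τ r) {x : Q} (hx : x ∈ S) (q : Q) : q * x * q⁻¹ ∈ S :=
  h.normal.conj_mem x hx q

/-- The element of order `6`. -/
def uu (τ r : Q) : Q := τ * r

theorem QHyp.uu_pow (h : QHyp S τ r) (n : ℕ) : uu τ r ^ n = τ ^ n * r ^ n :=
  (show Commute τ r from (h.tau_central r).symm).mul_pow n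

theorem QHyp.tau_pow (h : QHyp S τ r) (n : ℕ) : τ ^ n = if Even n then 1 else τ := by
  rcases Nat.even_or_odd n with ⟨k, rfl⟩ | ⟨k, rfl⟩
  · rw [if_pos ⟨k, rfl⟩, ← two_mul, pow_mul, sq, h.invol τ h.tau_mem, one_pow]
  · rw [if_neg (Nat.not_even_iff_odd.mpr ⟨k, rfl⟩), pow_succ, pow_mul, sq, h.invol τ h.tau_mem,
      one_pow, one_mul]

theorem QHyp.uu_pow_six (h : QHyp S τ r) : uu τ r ^ 6 = 1 := by
  rw [h.uu_pow, h.tau_pow, h.r_pow_of_dvd (by norm_num)]
  simp [show Even 6 by decide]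

theorem QHyp.uu_pow_three (h : QHyp S τ r) : uu τ r ^ 3 = τ := by
  rw [h.uu_pow, h.tau_pow, h.r_pow]
  simp [show ¬ Even 3 by decide]

theorem QHyp.uu_pow_mem (h : QHyp S τ r) {n : ℕ} (hn : uu τ r ^ n ∈ S) : 3 ∣ n := by
  rw [h.uu_pow, S.mul_mem_cancel_left (S.pow_mem h.tau_mem n)] at hn
  exact h.not_mem hn

theorem QHyp.uu_pow_eq_one (h : QHyp S τ r) {n : ℕ} (hn : uu τ r ^ n = 1) : 6 ∣ n := by
  obtain ⟨m, rfl⟩ := h.uu_pow_mem (hn ▸ S.one_mem)
  rw [pow_mul, h.uu_pow_three, h.tau_pow] at hn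
  split_ifs at hn with he
  · obtain ⟨k, rfl⟩ := he
    exact ⟨k, by ring⟩
  · exact absurd hn h.tau_ne

theorem QHyp.orderOf_uu (h : QHyp S τ r) : orderOf (uu τ r) = 6 :=
  Nat.dvd_antisymm (orderOf_dvd_of_pow_eq_one h.uu_pow_six)
    (h.uu_pow_eq_one (pow_orderOf_eq_one _))

theorem QHyp.mem_uu (h : QHyp S τ r) {x : Q} (hx : x ∈ S) (hu : x ∈ Subgroup.zpowers (uu τ r)) :
    x = 1 ∨ x = τ := by
  have hfin : IsOfFinOrder (uu τ r) := isOfFinOrder_iff_pow_eq_one.mpr ⟨6, by norm_num, h.uu_pow_six⟩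
  obtain ⟨n, rfl⟩ := (IsOfFinOrder.mem_powers_iff_mem_zpowers hfin).mpr hu
  simp only at hx ⊢
  obtain ⟨m, rfl⟩ := h.uu_pow_mem hx
  rw [pow_mul, h.uu_pow_three, h.tau_pow]
  split_ifs <;> simp

/-- The moves of a power of `uu` under conjugation by `s ∈ S`. -/
theorem QHyp.s_conj (h : QHyp S τ r) (s : Q) (j : ℕ) :
    s * uu τ r ^ j * s⁻¹ = s * (r ^ j * s⁻¹ * (r ^ j)⁻¹) * uu τ r ^ j := by
  rw [h.uu_pow]
  have h1 : ∀ y, τ ^ j * y = y * τ ^ j := fun y =>
    ((show Commute τ y from (h.tau_central y).symm).pow_left j).eq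
  calc s * (τ ^ j * r ^ j) * s⁻¹ = s * (r ^ j * τ ^ j) * s⁻¹ := by rw [h1]
    _ = s * (r ^ j * (τ ^ j * s⁻¹)) := by simp only [mul_assoc]
    _ = s * (r ^ j * (s⁻¹ * τ ^ j)) := by rw [h1]
    _ = s * (r ^ j * s⁻¹ * (r ^ j)⁻¹) * (r ^ j * τ ^ j) := by group
    _ = _ := by rw [h1]

theorem QHyp.r_commute_uu (h : QHyp S τ r) : Commute r (uu τ r) :=
  (show Commute r τ from h.tau_central r).mul_right (Commute.refl r)

theorem QHyp.r_mem_uu (h : QHyp S τ r) : r ∈ Subgroup.zpowers (uu τ r) := by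
  refine Subgroup.mem_zpowers_iff.mpr ⟨4, ?_⟩
  rw [show (4 : ℤ) = ((4 : ℕ) : ℤ) by norm_num, zpow_natCast, h.uu_pow, h.tau_pow,
    if_pos (by decide), one_mul, pow_succ, h.r_pow, one_mul]

/-- Fusion of the elements `uu ^ j`, `j ≢ 0 mod 3`, happens inside `zpowers uu`. -/
theorem QHyp.conj_uu (h : QHyp S τ r) {g : Q} {j : ℕ} (hj : ¬ 3 ∣ j)
    (hg : g⁻¹ * uu τ r ^ j * g ∈ Subgroup.zpowers (uu τ r)) :
    g ∈ Subgroup.zpowers (uu τ r) := by
  set R := Subgroup.zpowers (uu τ r) with hR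
  obtain ⟨s, hs, i, rfl⟩ := h.decomp g
  have hr : r ^ i ∈ R := pow_mem h.r_mem_uu i
  have h1 : s⁻¹ * uu τ r ^ j * s ∈ R := by
    have := R.mul_mem (R.mul_mem hr hg) (R.inv_mem hr)
    rwa [show r ^ i * ((s * r ^ i)⁻¹ * uu τ r ^ j * (s * r ^ i)) * (r ^ i)⁻¹ =
      s⁻¹ * uu τ r ^ j * s by group] at this
  have h2 := h.s_conj s⁻¹ j
  rw [inv_inv] at h2
  rw [h2, R.mul_mem_cancel_right (pow_mem (Subgroup.mem_zpowers _) j)] at h1
  set d := s⁻¹ * (r ^ j * s * (r ^ j)⁻¹) with hd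
  have hdS : d ∈ S := S.mul_mem (S.inv_mem hs) (h.conj_mem hs _)
  refine R.mul_mem ?_ hr
  have key : r ^ j * s * (r ^ j)⁻¹ = s * d := by rw [hd, mul_inv_cancel_left]
  rcases h.mem_uu hdS h1 with e | e
  · rw [e, mul_one, mul_inv_eq_iff_eq_mul] at key
    rcases h.fix_pow hj hs key with e' | e' <;> rw [e']
    · exact R.one_mem
    · have := pow_mem (Subgroup.mem_zpowers (uu τ r)) 3
      rwa [h.uu_pow_three] at this
  · exfalso
    rw [e] at key
    -- applying `r ^ j` three times multiplies `s` by `τ ^ 3`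
    have step : ∀ m : ℕ, (r ^ j) ^ m * s * ((r ^ j) ^ m)⁻¹ = s * τ ^ m := by
      intro m
      induction m with
      | zero => simp
      | succ m ih =>
        rw [pow_succ' (r ^ j), mul_inv_rev,
          show r ^ j * (r ^ j) ^ m * s * (((r ^ j) ^ m)⁻¹ * (r ^ j)⁻¹) =
            r ^ j * ((r ^ j) ^ m * s * ((r ^ j) ^ m)⁻¹) * (r ^ j)⁻¹ by simp only [mul_assoc], ih]
        rw [show r ^ j * (s * τ ^ m) * (r ^ j)⁻¹ = r ^ j * s * (r ^ j)⁻¹ * (r ^ j * τ ^ m * (r ^ j)⁻¹)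
          by group, key]
        rw [((show Commute (r ^ j) τ from h.tau_central _).pow_right m).eq, mul_inv_cancel_right,
          mul_assoc, ← pow_succ']
    have h3 := step 3
    rw [← pow_mul, h.r_pow_of_dvd (dvd_mul_left 3 j), h.tau_pow, if_neg (by decide)] at h3
    simp at h3
    exact h.tau_ne h3

/-- No involution inverts a power of `uu` outside `zpowers τ`. -/
theorem QHyp.not_inverted (h : QHyp S τ r) {v : Q} (hv : v * v = 1) {j : ℕ}
    (hi : v * uu τ r ^ j * v⁻¹ = (uu τ r ^ j)⁻¹) : 3 ∣ j := by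
  obtain ⟨s, hs, i, rfl⟩ := h.decomp v
  have hi3 : 3 ∣ i := by
    have e : s * r ^ i * (s * r ^ i) = s * (r ^ i * s * (r ^ i)⁻¹) * r ^ (2 * i) := by
      rw [two_mul, pow_add]; group
    rw [e] at hv
    have hm : r ^ (2 * i) ∈ S := by
      rw [eq_inv_of_mul_eq_one_right hv]
      exact S.inv_mem (S.mul_mem hs (h.conj_mem hs _))
    have := h.not_mem hm
    omega
  rw [h.r_pow_of_dvd hi3, mul_one, h.s_conj s j] at hi
  have h2 : uu τ r ^ (2 * j) ∈ S := by
    have e : s * (r ^ j * s⁻¹ * (r ^ j)⁻¹) * uu τ r ^ (2 * j) = 1 := by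
      rw [two_mul, pow_add, ← mul_assoc, hi, inv_mul_cancel]
    rw [eq_inv_of_mul_eq_one_right e]
    exact S.inv_mem (S.mul_mem hs (h.conj_mem (S.inv_mem hs) _))
  have := h.uu_pow_mem h2
  omega

theorem QHyp.decomp_lt (h : QHyp S τ r) (q : Q) : ∃ s ∈ S, ∃ i < 3, q = s * r ^ i := by
  obtain ⟨s, hs, i, rfl⟩ := h.decomp q
  refine ⟨s, hs, i % 3, Nat.mod_lt _ (by norm_num), ?_⟩
  conv_lhs => rw [← Nat.mod_add_div i 3, pow_add, pow_mul, h.r_pow, one_pow, mul_one]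

theorem QHyp.card_eq (h : QHyp S τ r) : Nat.card Q = 24 := by
  have hf : Function.Bijective (fun p : S × Fin 3 => (p.1 : Q) * r ^ (p.2 : ℕ)) := by
    constructor
    · rintro ⟨a, i⟩ ⟨b, k⟩ e
      simp only at e
      have key : ∀ (a b : S) (i k : Fin 3), (i : ℕ) ≤ k →
          (a : Q) * r ^ (i : ℕ) = b * r ^ (k : ℕ) → a = b ∧ i = k := by
        intro a b i k hik e
        have hm : r ^ ((k : ℕ) - i) ∈ S := by
          rw [← Nat.add_sub_cancel' hik, add_comm, pow_add, ← mul_assoc] at e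
          rw [show r ^ ((k : ℕ) - i) = (b : Q)⁻¹ * a by rw [mul_right_cancel e]; group]
          exact S.mul_mem (S.inv_mem b.2) a.2
        have hd := h.not_mem hm
        have : (i : ℕ) = k := by omega
        rw [this] at e
        exact ⟨Subtype.ext (mul_right_cancel e), Fin.ext this⟩
      rcases le_total (i : ℕ) k with hik | hik
      · obtain ⟨rfl, rfl⟩ := key a b i k hik e; rfl
      · obtain ⟨rfl, rfl⟩ := key b a k i hik e.symm; rfl
    · intro q
      obtain ⟨s, hs, i, hi, rfl⟩ := h.decomp_lt q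
      exact ⟨⟨⟨s, hs⟩, ⟨i, hi⟩⟩, rfl⟩
  rw [← Nat.card_congr (Equiv.ofBijective _ hf), Nat.card_prod, h.card, Nat.card_fin]

theorem QHyp.index_eq (h : QHyp S τ r) : S.index = 3 := by
  have := S.index_mul_card
  rw [h.card_eq, h.card] at this
  omega

/-- An element whose centraliser has odd index lies in `S`. -/
theorem QHyp.mem_of_odd_index (h : QHyp S τ r) {q : Q}
    (hodd : Odd (Subgroup.centralizer ({q} : Set Q)).index) : q ∈ S := by
  have : Finite Q := Nat.finite_of_card_ne_zero (by rw [h.card_eq]; norm_num)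
  have := h.normal
  set C := Subgroup.centralizer ({q} : Set Q) with hC
  have hSC : S ≤ C := by
    have hC8 : 2 ^ 3 ∣ Nat.card C := by
      have e := C.index_mul_card
      rw [h.card_eq] at e
      have h8 : 2 ^ 3 ∣ C.index * Nat.card C := by rw [e]; norm_num
      exact (Nat.Coprime.pow_left 3 (Nat.coprime_two_left.mpr hodd)).dvd_of_dvd_mul_left h8
    obtain ⟨P, hP⟩ := Sylow.exists_subgroup_card_pow_prime 2 hC8
    have hPS : P.map C.subtype ≤ S := by
      rintro _ ⟨x, hx, rfl⟩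
      have hx8 : (x : Q) ^ 8 = 1 := by
        have := pow_card_eq_one' (x := (⟨x, hx⟩ : P))
        rw [hP] at this
        have h' := congrArg (fun z : P => ((z : C) : Q)) this
        simpa using h'
      rw [Subgroup.coe_subtype, ← QuotientGroup.eq_one_iff, ← orderOf_eq_one_iff]
      have h3 : orderOf ((x : Q) : Q ⧸ S) ∣ 3 := by
        rw [← h.index_eq, Subgroup.index_eq_card]; exact orderOf_dvd_natCard _
      have h8' : orderOf ((x : Q) : Q ⧸ S) ∣ 8 :=
        orderOf_dvd_of_pow_eq_one (by rw [← QuotientGroup.mk_pow, hx8, QuotientGroup.mk_one])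
      exact Nat.eq_one_of_dvd_coprimes (by norm_num) h3 h8'
    have he : P.map C.subtype = S := Subgroup.eq_of_le_of_card_ge hPS
      (by rw [h.card, Subgroup.card_map_of_injective C.subtype_injective, hP]; norm_num)
    exact he ▸ Subgroup.map_subtype_le P
  obtain ⟨s, hs, i, hi, rfl⟩ := h.decomp_lt q
  by_cases hd : 3 ∣ i
  · rw [h.r_pow_of_dvd hd, mul_one]; exact hs
  exfalso
  obtain ⟨x, hx, hx1, hxτ⟩ := h.exists_outside
  have hc := Subgroup.mem_centralizer_singleton_iff.mp (hSC hx)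
  -- hc : x * (s * r ^ i) = s * r ^ i * x
  have : r ^ i * x = x * r ^ i := by
    have e : s * (x * r ^ i) = s * (r ^ i * x) := by
      rw [← mul_assoc, h.comm hs hx, mul_assoc, hc, mul_assoc]
    exact (mul_left_cancel e).symm
  rcases h.fix_pow hd hx this with e | e
  · exact hx1 e
  · exact hxτ e

end CfsgLib.InvolChar.EightCase
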